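import Cfsg.Agent.Lib.DefectZero.Spherical
import Cfsg.Agent.Lib.Fusion.PSLnSimple
import Cfsg.Agent.Lib.GLUnipotent.Bruhat

/-!
# The split configuration of the special linear group and uniqueness of its defect zero character
-/

set_option autoImplicit false
set_option linter.unusedSectionVars false
set_option linter.style.haveILetI false

open Matrix CfsgLib.Fusion.UniTri

noncomputable section

namespace CfsgLib.KnownSimple.SLBlocks

variable {F : Type*} [Field F] {m : ℕ}

/-- The ambient group. -/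
local notation "SLm" => Matrix.SpecialLinearGroup (Fin (m + 1)) F

/-- A submonoid of a finite group as a subgroup. -/
def finSub {G : Type*} [Group G] [Finite G] (s : Set G) (h1 : (1 : G) ∈ s)
    (hmul : ∀ a b, a ∈ s → b ∈ s → a * b ∈ s) : Subgroup G where
  carrier := s
  one_mem' := h1
  mul_mem' := fun {a b} ha hb => hmul a b ha hb
  inv_mem' := fun {g} hg => by
    have : g⁻¹ ∈ Submonoid.powers g := by
      rw [mem_powers_iff_mem_zpowers]; exact inv_mem (Subgroup.mem_zpowers g)
    exact Submonoid.powers_le.2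
      (show g ∈ ({ carrier := s, one_mem' := h1, mul_mem' := fun {a b} ha hb => hmul a b ha hb } : Submonoid G)
        from hg) this

theorem mem_finSub {G : Type*} [Group G] [Finite G] {s : Set G} {h1 : (1 : G) ∈ s}
    {hmul : ∀ a b, a ∈ s → b ∈ s → a * b ∈ s} {g : G} : g ∈ finSub s h1 hmul ↔ g ∈ s := Iff.rfl

/-- The first index of a simple root. -/
abbrev sA (i : Fin m) : Fin (m + 1) := i.castSucc

/-- The second index of a simple root. -/
abbrev sB (i : Fin m) : Fin (m + 1) := i.succ

theorem sA_lt_sB (i : Fin m) : sA i < sB i := Fin.castSucc_lt_succ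

theorem lt_cases {i : Fin m} {x y : Fin (m + 1)} (h : x < y) :
    (x = sA i ∧ y = sB i) ∨ Equiv.swap (sA i) (sB i) x < Equiv.swap (sA i) (sB i) y := by
  by_cases hxy : x = sA i ∧ y = sB i
  · exact Or.inl hxy
  right
  rw [Equiv.swap_apply_def, Equiv.swap_apply_def]
  simp only [Fin.lt_def, Fin.ext_iff, sA, sB, Fin.val_castSucc, Fin.val_succ] at *
  split_ifs <;> (try simp only [Fin.val_castSucc, Fin.val_succ]) <;> omega

/-- A monomial pattern. -/
def IsMon (g : SLm) (σ : Equiv.Perm (Fin (m + 1))) : Prop := ∀ r s, r ≠ σ s → g.1 r s = 0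

theorem IsMon.entry_ne {g : SLm} {σ : Equiv.Perm (Fin (m + 1))} (h : IsMon g σ) (s : Fin (m + 1)) :
    g.1 (σ s) s ≠ 0 := by
  intro h0
  have : g.1.det = 0 := Matrix.det_eq_zero_of_column_eq_zero s fun r => by
    by_cases hr : r = σ s
    · rw [hr]; exact h0
    · exact h r s hr
  rw [g.2] at this
  exact one_ne_zero this

theorem IsMon.mul_apply {g : SLm} {σ : Equiv.Perm (Fin (m + 1))} (h : IsMon g σ)
    (M : Matrix (Fin (m + 1)) (Fin (m + 1)) F) (r s : Fin (m + 1)) :
    (M * g.1) r s = M r (σ s) * g.1 (σ s) s := by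
  rw [Matrix.mul_apply, Finset.sum_eq_single (σ s)]
  · intro z _ hz; rw [h z s hz, mul_zero]
  · simp

theorem IsMon.apply_mul {g : SLm} {σ : Equiv.Perm (Fin (m + 1))} (h : IsMon g σ)
    (M : Matrix (Fin (m + 1)) (Fin (m + 1)) F) (r s : Fin (m + 1)) :
    (g.1 * M) (σ r) s = g.1 (σ r) r * M r s := by
  rw [Matrix.mul_apply, Finset.sum_eq_single r]
  · intro z _ hz; rw [h (σ r) z (fun e => hz (σ.injective e).symm), zero_mul]
  · simp

theorem IsMon.mul {g k : SLm} {σ τ : Equiv.Perm (Fin (m + 1))} (hg : IsMon g σ) (hk : IsMon k τ) :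
    IsMon (g * k) (σ * τ) := fun r s hrs => by
  rw [val_mul, hk.mul_apply, hg r (τ s) hrs, zero_mul]

theorem IsMon.one : IsMon (1 : SLm) 1 := fun r s h => by
  rw [val_one, Matrix.one_apply_ne]; exact h

/-- Conjugation of an elementary matrix by a monomial one. -/
theorem IsMon.conj_el {g : SLm} {σ : Equiv.Perm (Fin (m + 1))} (h : IsMon g σ) {p q : Fin (m + 1)}
    (hpq : p ≠ q) (d : F) :
    g * el hpq d = el (σ.injective.ne hpq) (g.1 (σ p) p * d / g.1 (σ q) q) * g := by
  refine Subtype.ext ?_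
  rw [val_mul, val_mul, el_val, el_val]
  refine Matrix.ext_iff.1 fun r s => ?_
  rw [mul_transvection_apply, transvection_mul_apply]
  congr 1
  have hne := h.entry_ne q
  by_cases hs : s = q <;> by_cases hr : r = σ p
  · subst hs hr; rw [if_pos rfl, if_pos rfl]; field_simp
  · subst hs; rw [if_pos rfl, if_neg hr, h r p hr, mul_zero]
  · subst hr; rw [if_neg hs, if_pos rfl, h (σ q) s (σ.injective.ne (Ne.symm hs)), mul_zero]
  · rw [if_neg hs, if_neg hr]

/-- A diagonal unimodular matrix. -/
theorem diag_det {g : SLm} (hg : ∀ r s, r ≠ s → g.1 r s = 0) : ∏ x, g.1 x x = 1 := by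
  rw [← Matrix.det_of_isUpperTriangular (M := g.1) fun x y h => hg x y (ne_of_gt h)]
  exact g.2

theorem diag_ne {g : SLm} (hg : ∀ r s, r ≠ s → g.1 r s = 0) (x : Fin (m + 1)) : g.1 x x ≠ 0 :=
  IsMon.entry_ne (σ := 1) (fun r s h => hg r s h) x

theorem diag_mul_apply {g : SLm} (hg : ∀ r s, r ≠ s → g.1 r s = 0)
    (M : Matrix (Fin (m + 1)) (Fin (m + 1)) F) (r s : Fin (m + 1)) :
    (g.1 * M) r s = g.1 r r * M r s :=
  IsMon.apply_mul (σ := 1) (fun a b h => hg a b h) M r s

theorem mul_diag_apply {g : SLm} (hg : ∀ r s, r ≠ s → g.1 r s = 0)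
    (M : Matrix (Fin (m + 1)) (Fin (m + 1)) F) (r s : Fin (m + 1)) :
    (M * g.1) r s = M r s * g.1 s s :=
  IsMon.mul_apply (σ := 1) (fun a b h => hg a b h) M r s

/-- The fundamental Weyl element. -/
def nEl (i : Fin m) : SLm :=
  el (sA_lt_sB i).ne 1 * el (sA_lt_sB i).ne' (-1) * el (sA_lt_sB i).ne 1

theorem nEl_apply (i : Fin m) (r s : Fin (m + 1)) :
    (nEl (F := F) i).1 r s = if r = sA i then (if s = sB i then 1 else 0) else
      if r = sB i then (if s = sA i then -1 else 0) else if r = s then 1 else 0 := by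
  have hab := (sA_lt_sB i).ne
  rw [nEl, val_mul, val_mul, el_val, el_val, mul_assoc, transvection_mul_apply, transvection_mul_apply,
    transvection_mul_apply]
  simp only [transvection, Matrix.add_apply, Matrix.one_apply, Matrix.single_apply]
  by_cases h1 : r = sA i <;> by_cases h2 : r = sB i <;> by_cases h3 : s = sA i <;>
    by_cases h4 : s = sB i <;> simp_all [eq_comm]

theorem nEl_isMon (i : Fin m) : IsMon (nEl (F := F) i) (Equiv.swap (sA i) (sB i)) := by
  intro r s h
  rw [nEl_apply]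
  by_cases h1 : r = sA i <;> by_cases h2 : r = sB i <;> by_cases h3 : s = sA i <;>
    by_cases h4 : s = sB i <;> simp_all [Equiv.swap_apply_def, eq_comm]

theorem nEl_inv_isMon (i : Fin m) : IsMon (nEl (F := F) i)⁻¹ (Equiv.swap (sA i) (sB i)) := by
  intro r s h
  have e := congrArg (fun g : SLm => g.1 r (Equiv.swap (sA i) (sB i) s)) (inv_mul_cancel (nEl (F := F) i))
  simp only [val_mul, val_one] at e
  rw [(nEl_isMon i).mul_apply, Equiv.swap_apply_self, Matrix.one_apply_ne h] at e
  refine (mul_eq_zero.1 e).resolve_right ?_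
  have := (nEl_isMon (F := F) i).entry_ne (Equiv.swap (sA i) (sB i) s)
  rwa [Equiv.swap_apply_self] at this

/-- Inversion number. -/
def invCount (σ : Equiv.Perm (Fin (m + 1))) : ℕ :=
  (Finset.univ.filter fun z : Fin (m + 1) × Fin (m + 1) => z.1 < z.2 ∧ σ z.2 < σ z.1).card

theorem invCount_lt {σ : Equiv.Perm (Fin (m + 1))} {i : Fin m} (h : σ (sB i) < σ (sA i)) :
    invCount (σ * Equiv.swap (sA i) (sB i)) < invCount σ := by
  set w := Equiv.swap (sA i) (sB i)
  let e : Fin (m + 1) × Fin (m + 1) ↪ Fin (m + 1) × Fin (m + 1) :=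
    ⟨fun z => (w z.1, w z.2), fun a b hab => Prod.ext (w.injective (congrArg Prod.fst hab))
      (w.injective (congrArg Prod.snd hab))⟩
  rw [invCount, invCount, ← Finset.card_map e]
  refine Finset.card_lt_card ((Finset.ssubset_iff_of_subset ?_).2 ⟨(sA i, sB i), ?_, ?_⟩)
  · intro z' hz'
    obtain ⟨z, hz, rfl⟩ := Finset.mem_map.1 hz'
    clear hz' 
    replace hz : z.1 < z.2 ∧ σ (w z.2) < σ (w z.1) := (Finset.mem_filter.1 hz).2
    refine Finset.mem_filter.2 ⟨Finset.mem_univ _, ?_, hz.2⟩
    rcases lt_cases (i := i) hz.1 with ⟨h1, h2⟩ | h'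
    · exfalso
      have := hz.2
      rw [h1, h2] at this
      simp only [w, Equiv.swap_apply_left, Equiv.swap_apply_right] at this
      exact lt_asymm h this
    · exact h'
  · simp only [Finset.mem_filter, Finset.mem_univ, true_and]; exact ⟨sA_lt_sB i, h⟩
  · intro hz
    obtain ⟨z, hz, e'⟩ := Finset.mem_map.1 hz
    simp only [Finset.mem_filter, Finset.mem_univ, true_and] at hz
    have h1 : w z.1 = sA i := congrArg Prod.fst e'
    have h2 : w z.2 = sB i := congrArg Prod.snd e'
    have h1' : z.1 = sB i := w.injective (by rw [h1]; simp [w])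
    have h2' : z.2 = sA i := w.injective (by rw [h2]; simp [w])
    rw [h1', h2'] at hz
    exact lt_asymm (sA_lt_sB i) hz.1

theorem exists_descent {σ : Equiv.Perm (Fin (m + 1))} (hσ : σ ≠ 1) :
    ∃ i : Fin m, σ (sB i) < σ (sA i) := by
  by_contra h
  push Not at h
  have hm : Monotone σ := Fin.monotone_iff_le_succ.2 h
  refine hσ (Equiv.ext fun x => ?_)
  have := Finite.injective_iff_bijective.1 σ.injective
  exact congrFun ((hm.strictMono_of_injective σ.injective).range_inj (g := id) strictMono_id |>.1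
    (by simp [σ.surjective.range_eq])) x

/-- Induction over monomial matrices along reduced words. -/
theorem mon_induction {P : SLm → Prop} (h1 : ∀ t : SLm, (∀ r s, r ≠ s → t.1 r s = 0) → P t)
    (hn : ∀ (i : Fin m) (k : SLm) (τ : Equiv.Perm (Fin (m + 1))), IsMon k τ →
      τ (sA i) < τ (sB i) → P k → P (k * nEl i))
    {g : SLm} {σ : Equiv.Perm (Fin (m + 1))} (hg : IsMon g σ) : P g := by
  suffices H : ∀ (N : ℕ) (g : SLm) (σ : Equiv.Perm (Fin (m + 1))), invCount σ = N → IsMon g σ → P g from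
    H _ g σ rfl hg
  intro N
  induction N using Nat.strong_induction_on with
  | _ N ih =>
    intro g σ hN hg
    by_cases hσ : σ = 1
    · exact h1 g fun r s hrs => hg r s (by simpa [hσ] using hrs)
    obtain ⟨i, hi⟩ := exists_descent hσ
    have hk := hg.mul (nEl_inv_isMon (F := F) i)
    have h := hn i (g * (nEl i)⁻¹) _ hk (by simpa [Equiv.Perm.mul_apply] using hi)
      (ih _ (hN ▸ invCount_lt hi) _ _ rfl hk)
    rwa [inv_mul_cancel_right] at h

theorem el_comm {a b c : Fin (m + 1)} (hab : a ≠ b) (hbc : b ≠ c) (hac : a ≠ c) (t : F) :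
    (el hab t * el hbc 1 * el hab (-t) * el hbc (-1) : SLm) = el hac t := by
  refine Subtype.ext ?_
  rw [val_mul, val_mul, val_mul, el_val, el_val, el_val, el_val, el_val]
  refine Matrix.ext_iff.1 fun r s => ?_
  simp only [mul_transvection_apply]
  simp only [transvection, Matrix.add_apply, Matrix.one_apply, Matrix.single_apply]
  by_cases h1 : r = a <;> by_cases h2 : r = b <;> by_cases h3 : s = b <;> by_cases h4 : s = c <;>
    simp_all [eq_comm]

variable [Fintype F] [DecidableEq F]

/-- The lower unitriangular subgroup. -/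
def lowerU : Subgroup SLm :=
  finSub {g | IsUni g.1ᵀ} (by show IsUni _; rw [val_one, Matrix.transpose_one]; exact IsUni.one)
    fun a b ha hb => by
      show IsUni _
      rw [val_mul, Matrix.transpose_mul]
      exact IsUni.mul hb ha

theorem mem_lowerU {g : SLm} :
    g ∈ lowerU ↔ (∀ x y, x < y → g.1 x y = 0) ∧ ∀ x, g.1 x x = 1 :=
  ⟨fun h => ⟨fun x y hxy => h.1 y x hxy, h.2⟩, fun h => ⟨fun x y hxy => h.1 y x hxy, h.2⟩⟩

/-- The diagonal subgroup. -/
def diagT : Subgroup SLm :=
  finSub {g | ∀ r s, r ≠ s → g.1 r s = 0} (fun r s h => by rw [val_one, Matrix.one_apply_ne h])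
    fun a b ha hb r s h => by rw [val_mul, diag_mul_apply ha, hb r s h, mul_zero]

theorem mem_diagT {g : SLm} : g ∈ diagT ↔ ∀ r s, r ≠ s → g.1 r s = 0 := Iff.rfl

/-- The upper triangular subgroup. -/
def borelB : Subgroup SLm :=
  finSub {g | ∀ r s, s < r → g.1 r s = 0} (fun r s h => by rw [val_one, Matrix.one_apply_ne h.ne'])
    fun a b ha hb r s h => by rw [val_mul]; exact mul_apply_lower ha hb h

theorem mem_borelB {g : SLm} : g ∈ borelB ↔ ∀ r s, s < r → g.1 r s = 0 := Iff.rfl

/-- The monomial subgroup. -/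
def monN : Subgroup SLm :=
  finSub {g | ∃ σ, IsMon g σ} ⟨1, IsMon.one⟩ fun _ _ ⟨_, hσ⟩ ⟨_, hτ⟩ => ⟨_, hσ.mul hτ⟩

theorem mem_monN {g : SLm} : g ∈ monN ↔ ∃ σ, IsMon g σ := Iff.rfl

theorem upper_entry_simple (i : Fin m) {M N : Matrix (Fin (m + 1)) (Fin (m + 1)) F} (hM : IsUni M)
    (hN : IsUni N) : (M * N) (sA i) (sB i) = M (sA i) (sB i) + N (sA i) (sB i) := by
  rw [Matrix.mul_apply, Finset.sum_eq_add (sA i) (sB i) (sA_lt_sB i).ne]
  · rw [hM.2, hN.2, one_mul, mul_one, add_comm]
  · intro z _ hz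
    rcases lt_or_ge z (sA i) with h | h
    · rw [hM.1 _ z h, zero_mul]
    · have : sB i < z := by
        have h1 := hz.1
        have h2 := hz.2
        simp only [sA, sB, Fin.lt_def, Fin.le_def, Fin.val_castSucc, Fin.val_succ, ne_eq, Fin.ext_iff] at *
        omega
      rw [hN.1 z _ this, mul_zero]
  · simp
  · simp

/-- The unipotent radical of a minimal parabolic subgroup. -/
def upperPart (i : Fin m) : Subgroup SLm :=
  finSub {g | IsUni g.1 ∧ g.1 (sA i) (sB i) = 0}
    ⟨IsUni.one, by rw [val_one, Matrix.one_apply_ne (sA_lt_sB i).ne]⟩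
    fun a b ha hb => ⟨ha.1.mul hb.1, by rw [val_mul, upper_entry_simple i ha.1 hb.1, ha.2, hb.2, add_zero]⟩

/-- A minimal parabolic subgroup. -/
def minPar (i : Fin m) : Subgroup SLm :=
  finSub {g | ∀ r s, s < r → ¬ (r = sB i ∧ s = sA i) → g.1 r s = 0}
    (fun r s h _ => by rw [val_one, Matrix.one_apply_ne h.ne'])
    fun a b ha hb r s h hne => by
      rw [val_mul, Matrix.mul_apply]
      refine Finset.sum_eq_zero fun z _ => ?_
      by_cases h1 : z < r ∧ ¬ (r = sB i ∧ z = sA i)
      · rw [ha r z h1.1 h1.2, zero_mul]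
      · by_cases h2 : s < z ∧ ¬ (z = sB i ∧ s = sA i)
        · rw [hb z s h2.1 h2.2, mul_zero]
        · exfalso
          simp only [sA, sB, Fin.lt_def, Fin.ext_iff, Fin.val_castSucc, Fin.val_succ] at *
          omega

/-- The coroot. -/
def coroot (i : Fin m) : Fˣ →* SLm where
  toFun u := ⟨Matrix.diagonal fun x => if x = sA i then (u : F) else if x = sB i then (u : F)⁻¹ else 1, by
    rw [Matrix.det_diagonal, ← Finset.prod_subset (Finset.subset_univ {sA i, sB i}),
      Finset.prod_pair (sA_lt_sB i).ne]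
    · simp [(sA_lt_sB i).ne']
    · intro x _ hx
      simp only [Finset.mem_insert, Finset.mem_singleton, not_or] at hx
      simp [hx.1, hx.2]⟩
  map_one' := Subtype.ext (by
    rw [val_one, ← Matrix.diagonal_one]
    congr 1
    funext x
    simp)
  map_mul' u v := Subtype.ext (by
    show Matrix.diagonal _ = Matrix.diagonal _ * Matrix.diagonal _
    rw [Matrix.diagonal_mul_diagonal]
    congr 1
    funext x
    split_ifs <;> simp [mul_comm])

theorem coroot_mem (i : Fin m) (u : Fˣ) : coroot i u ∈ (diagT : Subgroup SLm) :=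
  fun r s h => Matrix.diagonal_apply_ne _ h

theorem coroot_diag (i : Fin m) (u : Fˣ) (x : Fin (m + 1)) :
    (coroot i u).1 x x = if x = sA i then (u : F) else if x = sB i then (u : F)⁻¹ else 1 :=
  Matrix.diagonal_apply_eq _ x

theorem nEl_conj_x (i : Fin m) (t : F) :
    nEl i * el (sA_lt_sB i).ne t * (nEl i)⁻¹ = (el (sA_lt_sB i).ne' (-t) : SLm) := by
  refine Subtype.ext ?_
  rw [(nEl_isMon i).conj_el, mul_inv_cancel_right, el_val, el_val, nEl_apply, nEl_apply]
  simp [(sA_lt_sB i).ne, (sA_lt_sB i).ne']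

theorem mem_borel_split {b : SLm} (hb : b ∈ borelB) :
    ∃ u ∈ upper F (m + 1), ∃ t ∈ (diagT : Subgroup SLm), b = u * t := by
  obtain ⟨D, hD, u, hu, rfl⟩ := exists_unipotent_mul (g := b) hb
  have hDT : D ∈ (diagT : Subgroup SLm) := fun r s h => by rw [hD]; exact Matrix.diagonal_apply_ne _ h
  refine ⟨D * u * D⁻¹, ?_, D, hDT, by group⟩
  have hDi : ∀ r s, r ≠ s → (D⁻¹).1 r s = 0 := mem_diagT.1 (inv_mem hDT)
  rw [mem_upper] at hu ⊢
  refine ⟨fun x y h => ?_, fun x => ?_⟩
  · rw [val_mul, val_mul, mul_diag_apply hDi, diag_mul_apply hDT, hu.1 x y h, mul_zero, zero_mul]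
  · have e := congrArg (fun g : SLm => g.1 x x) (mul_inv_cancel D)
    simp only [val_mul, val_one, Matrix.one_apply_eq] at e
    rw [diag_mul_apply hDT] at e
    rw [val_mul, val_mul, mul_diag_apply hDi, diag_mul_apply hDT, hu.2, mul_one, e]

theorem diagT_le_borelB : (diagT : Subgroup SLm) ≤ borelB := fun _ hg r s h => hg r s h.ne'

theorem upper_le_borelB : upper F (m + 1) ≤ (borelB : Subgroup SLm) := fun _ hg => (mem_upper.1 hg).1

theorem exists_cell (g : SLm) :
    ∃ a ∈ (borelB : Subgroup SLm), ∃ k ∈ (monN : Subgroup SLm), ∃ c ∈ (borelB : Subgroup SLm), g = a * k * c := by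
  classical
  obtain ⟨b, hb, b', hb', π, e⟩ := CfsgLib.GLUnipotent.bruhat
    (Matrix.SpecialLinearGroup.toGL g)
  have e' : g.1 = (b : Matrix _ _ F) * CfsgLib.GLUnipotent.pmat F π * (b' : Matrix _ _ F) :=
    congrArg Units.val e
  set β := (b : Matrix (Fin (m + 1)) (Fin (m + 1)) F).det with hβ
  set β' := (b' : Matrix (Fin (m + 1)) (Fin (m + 1)) F).det with hβ'
  have hβ0 : β ≠ 0 := (Matrix.GeneralLinearGroup.det b).ne_zero
  have hβ0' : β' ≠ 0 := (Matrix.GeneralLinearGroup.det b').ne_zero
  let dd : F → Matrix (Fin (m + 1)) (Fin (m + 1)) F := fun x =>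
    Matrix.diagonal (Function.update (fun _ => (1 : F)) 0 x)
  have hdd : ∀ x, (dd x).det = x := fun x => by
    rw [Matrix.det_diagonal, Finset.prod_update_of_mem (Finset.mem_univ _)]; simp
  have hdm : ∀ x y, dd x * dd y = dd (x * y) := fun x y => by
    rw [Matrix.diagonal_mul_diagonal]
    congr 1
    funext z
    by_cases hz : z = 0
    · subst hz; simp
    · simp [Function.update_of_ne hz]
  have hd1 : dd 1 = 1 := by
    ext r s
    by_cases hr : r = 0 <;> simp [dd, Matrix.diagonal, Matrix.one_apply, Function.update, hr]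
  have hdet : β * (CfsgLib.GLUnipotent.pmat F π).det * β' = 1 := by
    rw [hβ, hβ', ← Matrix.det_mul, ← Matrix.det_mul, ← e', g.2]
  let a : SLm := ⟨(b : Matrix _ _ F) * dd β⁻¹, by rw [Matrix.det_mul, hdd, ← hβ, mul_inv_cancel₀ hβ0]⟩
  let k : SLm := ⟨dd β * CfsgLib.GLUnipotent.pmat F π * dd β', by
    rw [Matrix.det_mul, Matrix.det_mul, hdd, hdd, hdet]⟩
  let c : SLm := ⟨dd β'⁻¹ * (b' : Matrix _ _ F), by rw [Matrix.det_mul, hdd, ← hβ', inv_mul_cancel₀ hβ0']⟩
  refine ⟨a, ?_, k, ⟨π, ?_⟩, c, ?_, Subtype.ext ?_⟩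
  · intro r s h
    show ((b : Matrix (Fin (m + 1)) (Fin (m + 1)) F) * dd β⁻¹) r s = 0
    rw [Matrix.mul_diagonal, hb h, zero_mul]
  · intro r s h
    show (dd β * CfsgLib.GLUnipotent.pmat F π * dd β') r s = 0
    rw [Matrix.mul_diagonal, Matrix.diagonal_mul, CfsgLib.GLUnipotent.pmat, if_neg h, mul_zero, zero_mul]
  · intro r s h
    show (dd β'⁻¹ * (b' : Matrix (Fin (m + 1)) (Fin (m + 1)) F)) r s = 0
    rw [Matrix.diagonal_mul, hb' h, mul_zero]
  · show g.1 = (b : Matrix _ _ F) * dd β⁻¹ * (dd β * CfsgLib.GLUnipotent.pmat F π * dd β') *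
      (dd β'⁻¹ * (b' : Matrix _ _ F))
    rw [e']
    simp only [mul_assoc]
    rw [← mul_assoc (dd β⁻¹), hdm, inv_mul_cancel₀ hβ0, hd1, one_mul, ← mul_assoc (dd β'), hdm,
      mul_inv_cancel₀ hβ0', hd1, one_mul]

variable (p : ℕ) [Fact p.Prime] [CharP F p]

theorem isPGroup_upper : IsPGroup p (upper F (m + 1)) := fun g =>
  ⟨m + 1, Subtype.ext (IsUni.pow_eq_one (mem_upper.1 g.2))⟩

theorem isPGroup_lowerU : IsPGroup p (lowerU : Subgroup SLm) := fun g =>
  ⟨m + 1, Subtype.ext (Subtype.ext (by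
    have h : IsUni g.1.1ᵀ := g.2
    have e := h.pow_char (p := p)
    rw [← Matrix.transpose_pow, ← Matrix.transpose_one] at e
    show (g.1 ^ p ^ (m + 1)).1 = (1 : SLm).1
    rw [CfsgLib.Fusion.UniTri.val_pow, val_one]
    exact Matrix.transpose_injective e))⟩

theorem card_lowerU : Nat.card (lowerU : Subgroup SLm) = Nat.card (upper F (m + 1)) :=
  Nat.card_congr
    { toFun := fun g => ⟨⟨g.1.1ᵀ, by rw [Matrix.det_transpose]; exact g.1.2⟩, mem_upper.2 g.2⟩
      invFun := fun g => ⟨⟨g.1.1ᵀ, by rw [Matrix.det_transpose]; exact g.1.2⟩, by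
        show IsUni _
        rw [Matrix.transpose_transpose]
        exact mem_upper.1 g.2⟩
      left_inv := fun g => Subtype.ext (Subtype.ext (Matrix.transpose_transpose _))
      right_inv := fun g => Subtype.ext (Subtype.ext (Matrix.transpose_transpose _)) }

theorem exists_sylow_upper : ∃ P : Sylow p SLm, (P : Subgroup SLm) = upper F (m + 1) := by
  obtain ⟨P, hP⟩ := (isPGroup_upper (F := F) (m := m) p).exists_le_sylow
  refine ⟨P, ?_⟩
  by_contra hne
  have hlt : (upper F (m + 1)).subgroupOf (P : Subgroup SLm) < ⊤ := lt_of_le_of_ne le_top fun e =>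
    hne (le_antisymm (Subgroup.subgroupOf_eq_top.1 e) hP)
  have := P.2.isNilpotent
  obtain ⟨y, hy, hyU⟩ := SetLike.exists_of_lt (Group.normalizerCondition_of_isNilpotent _ hlt)
  have htri : ∀ r s, s < r → y.1.1 r s = 0 := upper_triangular_of_conj fun v hv => by
    have h := (Subgroup.mem_normalizer_iff.1 (inv_mem hy)) ⟨v, hP (mem_upper.2 hv)⟩ |>.1
      (show (⟨v, hP (mem_upper.2 hv)⟩ : (P : Subgroup SLm)) ∈ _ from mem_upper.2 hv)
    rw [Subgroup.mem_subgroupOf] at h
    refine ⟨_, mem_upper.1 h, ?_⟩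
    simp [mul_assoc]
  refine hyU (show (y : SLm) ∈ upper F (m + 1) from mem_upper.2 ⟨htri, fun x => ?_⟩)
  obtain ⟨k, hk⟩ := P.2 y
  have hk' : (y : SLm) ^ p ^ k = 1 := congrArg Subtype.val hk
  have hdiag : ∀ j : ℕ, ((y : SLm) ^ j).1 x x = y.1.1 x x ^ j ∧ ∀ r s, s < r → ((y : SLm) ^ j).1 r s = 0 := by
    intro j
    induction j with
    | zero => exact ⟨by simp [val_one], fun r s h => by simp [val_one, Matrix.one_apply_ne h.ne']⟩
    | succ j ih =>
      rw [pow_succ, val_mul, mul_apply_diag ih.2 htri, ih.1, ← pow_succ]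
      exact ⟨rfl, fun r s h => mul_apply_lower ih.2 htri h⟩
  have e := (hdiag (p ^ k)).1
  rw [hk', val_one, Matrix.one_apply_eq] at e
  exact CfsgLib.Fusion.UniTri.eq_one_of_pow_char e.symm

theorem conj_diag_uni {t : SLm} (ht : t ∈ (diagT : Subgroup SLm)) {M : Matrix (Fin (m + 1)) (Fin (m + 1)) F}
    (r s : Fin (m + 1)) (h : M r s = 0 ∨ r = s ∧ M r s = 1) :
    (t.1 * M * (t⁻¹).1) r s = M r s := by
  rw [mul_diag_apply (mem_diagT.1 (inv_mem ht)), diag_mul_apply ht]
  rcases h with h | ⟨rfl, h⟩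
  · rw [h, mul_zero, zero_mul]
  · have e := congrArg (fun g : SLm => g.1 r r) (mul_inv_cancel t)
    simp only [val_mul, val_one, Matrix.one_apply_eq] at e
    rw [diag_mul_apply ht] at e
    rw [h, mul_one, e]

theorem mon_conj_apply {k : SLm} {σ : Equiv.Perm (Fin (m + 1))} (hk : IsMon k σ) (M : SLm)
    (r s : Fin (m + 1)) :
    k.1 (σ s) s * (k * M * k⁻¹).1 (σ r) (σ s) = k.1 (σ r) r * M.1 r s := by
  have e := congrArg (fun g : SLm => g.1 (σ r) s) (inv_mul_cancel_right (k * M) k)
  simp only [val_mul] at e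
  rw [hk.mul_apply, hk.apply_mul] at e
  rw [val_mul, val_mul, mul_comm]
  exact e

theorem nEl_conj_zero (i : Fin m) {M : SLm} {r s : Fin (m + 1)}
    (h : M.1 (Equiv.swap (sA i) (sB i) r) (Equiv.swap (sA i) (sB i) s) = 0) :
    (nEl i * M * (nEl i)⁻¹).1 r s = 0 := by
  have e := mon_conj_apply (nEl_isMon (F := F) i) M (Equiv.swap (sA i) (sB i) r)
    (Equiv.swap (sA i) (sB i) s)
  rw [h, mul_zero, Equiv.swap_apply_self, Equiv.swap_apply_self] at e
  refine (mul_eq_zero.1 e).resolve_left ?_
  have := (nEl_isMon (F := F) i).entry_ne (Equiv.swap (sA i) (sB i) s)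
  rwa [Equiv.swap_apply_self] at this

theorem nEl_conj_diag (i : Fin m) {M : SLm} (hM : ∀ x, M.1 x x = 1) (x : Fin (m + 1)) :
    (nEl i * M * (nEl i)⁻¹).1 x x = 1 := by
  have e := mon_conj_apply (nEl_isMon (F := F) i) M (Equiv.swap (sA i) (sB i) x)
    (Equiv.swap (sA i) (sB i) x)
  rw [hM, mul_one, Equiv.swap_apply_self] at e
  have := (nEl_isMon (F := F) i).entry_ne (Equiv.swap (sA i) (sB i) x)
  rw [Equiv.swap_apply_self] at this
  exact mul_left_cancel₀ this (e.trans (mul_one _).symm)

theorem diagT_le_closure :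
    (diagT : Subgroup SLm) ≤ Subgroup.closure (⋃ i, Set.range (coroot (F := F) i)) := by
  suffices H : ∀ (j : ℕ) (t : SLm), j ≤ m → t ∈ (diagT : Subgroup SLm) →
      (∀ x : Fin (m + 1), x.val < m - j → t.1 x x = 1) →
      t ∈ Subgroup.closure (⋃ i, Set.range (coroot (F := F) i)) from
    fun t ht => H m t le_rfl ht (fun x hx => by omega)
  intro j
  induction j with
  | zero =>
    intro t _ ht hx
    convert one_mem (Subgroup.closure (⋃ i, Set.range (coroot (F := F) i)))
    refine Subtype.ext (Matrix.ext_iff.1 fun r s => ?_)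
    rw [val_one]
    by_cases h : r = s
    · subst h
      rw [Matrix.one_apply_eq]
      rcases lt_or_eq_of_le (Nat.lt_succ_iff.1 r.isLt) with h | h
      · exact hx r (by omega)
      · have e := diag_det ht
        rw [Finset.prod_eq_single r (fun b _ hb => hx b (by
          have := Fin.val_ne_of_ne hb
          have := b.isLt
          omega)) (by simp)] at e
        exact e
    · rw [Matrix.one_apply_ne h, ht r s h]
  | succ j ih =>
    intro t hj ht hx
    let i : Fin m := ⟨m - (j + 1), by omega⟩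
    let u : Fˣ := Units.mk0 (t.1 (sA i) (sA i)) (diag_ne ht _)
    have hmem : coroot i u⁻¹ * t ∈ Subgroup.closure (⋃ i, Set.range (coroot (F := F) i)) := by
      refine ih _ (by omega) (mul_mem (coroot_mem _ _) ht) fun x hxj => ?_
      rw [val_mul, mul_diag_apply ht, coroot_diag]
      by_cases h1 : x = sA i
      · subst h1
        simp [u, diag_ne ht]
      · have hlt : x.val < m - (j + 1) := by
          simp only [sA, i, Fin.ext_iff, Fin.val_castSucc] at h1
          omega
        have h2 : x ≠ sB i := by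
          simp only [sB, i, ne_eq, Fin.ext_iff, Fin.val_succ]
          omega
        rw [if_neg h1, if_neg h2, hx x hlt, one_mul]
    have := mul_mem (inv_mem (Subgroup.subset_closure (k := ⋃ i, Set.range (coroot (F := F) i))
      (Set.mem_iUnion.2 ⟨i, Set.mem_range_self u⁻¹⟩))) hmem
    rwa [inv_mul_cancel_left] at this

/-- The split configuration. -/
def slData : CfsgLib.DefectZero.SplitData p SLm F (Fin m) where
  U := upper F (m + 1)
  V := lowerU
  T := diagT
  B := borelB
  N := monN
  U' := upperPart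
  x i t := el (sA_lt_sB i).ne t
  y i t := el (sA_lt_sB i).ne' t
  h := coroot
  n := nEl
  U_pgroup := isPGroup_upper p
  V_pgroup := isPGroup_lowerU p
  card_V := card_lowerU
  card_U := by
    obtain ⟨P, hP⟩ := exists_sylow_upper (F := F) (m := m) p
    rw [← hP, P.card_eq_multiplicity]
  mem_B b := ⟨mem_borel_split, fun ⟨u, hu, t, ht, e⟩ =>
    e ▸ mul_mem (upper_le_borelB hu) (diagT_le_borelB ht)⟩
  cells := exists_cell
  T_comm a ha b hb := Subtype.ext (Matrix.ext_iff.1 fun r s => by
    rw [val_mul, val_mul, diag_mul_apply ha, mul_diag_apply ha]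
    by_cases h : r = s
    · subst h; ring
    · rw [hb r s h, mul_zero, zero_mul])
  N_T k hk t ht := by
    obtain ⟨σ, hσ⟩ := hk
    intro r s hrs
    have e := mon_conj_apply hσ t (σ.symm r) (σ.symm s)
    rw [Equiv.apply_symm_apply, Equiv.apply_symm_apply, ht _ _ (σ.symm.injective.ne hrs), mul_zero] at e
    refine (mul_eq_zero.1 e).resolve_left ?_
    have := hσ.entry_ne (σ.symm s)
    rwa [Equiv.apply_symm_apply] at this
  T_U t ht u hu := by
    rw [mem_upper] at hu ⊢
    refine ⟨fun r s h => ?_, fun r => ?_⟩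
    · rw [val_mul, val_mul, conj_diag_uni ht r s (Or.inl (hu.1 r s h)), hu.1 r s h]
    · rw [val_mul, val_mul, conj_diag_uni ht r r (Or.inr ⟨rfl, hu.2 r⟩), hu.2 r]
  T_V t ht u hu := by
    rw [mem_lowerU] at hu ⊢
    refine ⟨fun r s h => ?_, fun r => ?_⟩
    · rw [val_mul, val_mul, conj_diag_uni ht r s (Or.inl (hu.1 r s h)), hu.1 r s h]
    · rw [val_mul, val_mul, conj_diag_uni ht r r (Or.inr ⟨rfl, hu.2 r⟩), hu.2 r]
  n_mem i := ⟨_, nEl_isMon i⟩
  rankOne i :=
    { x_add := fun s t => (el_mul _ s t).symm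
      y_add := fun s t => (el_mul _ s t).symm
      hx := fun a t => by
        refine mul_inv_eq_of_eq_mul (Subtype.ext (Matrix.ext_iff.1 fun r s => ?_))
        have hh := coroot_mem i a
        rw [val_mul, val_mul, diag_mul_apply hh, mul_diag_apply hh, el_val, el_val, coroot_diag,
          coroot_diag]
        simp only [transvection, Matrix.add_apply, Matrix.one_apply, Matrix.single_apply]
        have hab := (sA_lt_sB i).ne
        have ha0 := a.ne_zero
        by_cases h1 : r = sA i <;> by_cases h2 : r = sB i <;> by_cases h3 : s = sA i <;>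
          by_cases h4 : s = sB i <;> simp_all [eq_comm] <;> field_simp
      key := fun u => by
        refine Subtype.ext (Matrix.ext_iff.1 fun r s => ?_)
        have hab := (sA_lt_sB i).ne
        have hu0 := u.ne_zero
        rw [val_mul (_ * _), val_mul (el (sA_lt_sB i).ne (u : F)), val_mul (coroot i u),
          el_val, el_val, mul_assoc, diag_mul_apply (coroot_mem i u), transvection_mul_apply,
          transvection_mul_apply, transvection_mul_apply, coroot_diag, nEl_apply]
        simp only [transvection, Matrix.add_apply, Matrix.one_apply, Matrix.single_apply]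
        by_cases h1 : r = sA i <;> by_cases h2 : r = sB i <;> by_cases h3 : s = sA i <;>
          by_cases h4 : s = sB i <;> simp_all [eq_comm]
      nx := nEl_conj_x i
      sq := by
        refine Subtype.ext (Matrix.ext_iff.1 fun r s => ?_)
        rw [val_mul, (nEl_isMon i).mul_apply, nEl_apply, nEl_apply]
        show _ = Matrix.diagonal _ r s
        rw [Matrix.diagonal_apply]
        have hab := (sA_lt_sB i).ne
        by_cases h1 : r = sA i <;> by_cases h2 : r = sB i <;> by_cases h3 : s = sA i <;>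
          by_cases h4 : s = sB i <;> simp_all [Equiv.swap_apply_def, eq_comm] }
  x_mem i a := el_mem_upper (sA_lt_sB i) a
  y_mem i a := by
    rw [mem_lowerU]
    refine ⟨fun r s h => ?_, fun r => ?_⟩ <;>
      simp only [el_val, transvection, Matrix.add_apply, Matrix.one_apply, Matrix.single_apply]
    · rw [if_neg h.ne, if_neg, add_zero]
      rintro ⟨rfl, rfl⟩
      exact lt_asymm h (sA_lt_sB i)
    · rw [if_pos trivial, if_neg, add_zero]
      rintro ⟨rfl, h⟩
      exact (sA_lt_sB i).ne h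
  h_mem := coroot_mem
  T_gen := diagT_le_closure
  U'_le i u hu := mem_upper.2 hu.1
  U_decomp i u hu := by
    rw [mem_upper] at hu
    refine ⟨u * el (sA_lt_sB i).ne (-(u.1 (sA i) (sB i))), ⟨?_, ?_⟩, u.1 (sA i) (sB i), ?_⟩
    · exact hu.mul (mem_upper.1 (el_mem_upper (sA_lt_sB i) _))
    · rw [val_mul, el_val, mul_transvection_apply, if_pos rfl, hu.2, mul_one, add_neg_cancel]
    · rw [mul_assoc, el_mul, neg_add_cancel, el_zero, mul_one]
  x_unique i a ha := by
    have h := ha.2
    simpa [el_val, transvection, (sA_lt_sB i).ne] using h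
  n_U' i u hu := by
    refine ⟨⟨fun r s h => ?_, nEl_conj_diag i hu.1.2⟩, ?_⟩
    · refine nEl_conj_zero i ?_
      rcases lt_cases (i := i) h with ⟨h1, h2⟩ | h'
      · rw [h1, h2, Equiv.swap_apply_left, Equiv.swap_apply_right]; exact hu.2
      · exact hu.1.1 _ _ h'
    · refine nEl_conj_zero i ?_
      rw [Equiv.swap_apply_left, Equiv.swap_apply_right]
      exact hu.1.1 _ _ (sA_lt_sB i)
  x_U' i a u hu := by
    have hx := mem_upper.1 (el_mem_upper (K := F) (sA_lt_sB i) a)
    have hxi := mem_upper.1 (inv_mem (el_mem_upper (K := F) (sA_lt_sB i) a))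
    refine ⟨(hx.mul hu.1).mul hxi, ?_⟩
    rw [val_mul, val_mul, upper_entry_simple i (hx.mul hu.1) hxi, upper_entry_simple i hx hu.1, hu.2,
      add_zero, ← upper_entry_simple i hx hxi, ← val_mul, mul_inv_cancel, val_one,
      Matrix.one_apply_ne (sA_lt_sB i).ne]
  V_decomp i v hv := by
    rw [mem_lowerU] at hv
    set c := v.1 (sB i) (sA i) with hc
    set v' : SLm := v * el (sA_lt_sB i).ne' (-c) with hv'
    have hlow : (∀ x y, x < y → v'.1 x y = 0) ∧ ∀ x, v'.1 x x = 1 := by
      refine ⟨fun x y h => ?_, fun x => ?_⟩ <;> rw [hv', val_mul, el_val, mul_transvection_apply]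
      · rw [hv.1 x y h, zero_add, ite_eq_right_iff]
        rintro rfl
        rw [hv.1 x _ (h.trans (sA_lt_sB i)), mul_zero]
      · rw [hv.2 x, add_eq_left, ite_eq_right_iff]
        rintro rfl
        rw [hv.1 _ _ (sA_lt_sB i), mul_zero]
    have h0 : v'.1 (sB i) (sA i) = 0 := by
      rw [hv', val_mul, el_val, mul_transvection_apply, if_pos rfl, hv.2, mul_one, ← hc, add_neg_cancel]
    refine ⟨v', mem_lowerU.2 ⟨fun r s h => nEl_conj_zero i ?_, nEl_conj_diag i hlow.2⟩, c, ?_⟩
    · rcases lt_cases (i := i) h with ⟨h1, h2⟩ | h'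
      · rw [h1, h2, Equiv.swap_apply_left, Equiv.swap_apply_right]; exact h0
      · exact hlow.1 _ _ h'
    · rw [hv', mul_assoc, el_mul, neg_add_cancel, el_zero, mul_one]
  gen := by
    set K := Subgroup.closure (((lowerU : Subgroup SLm) : Set SLm) ∪ (diagT : Subgroup SLm) ∪
      Set.range (nEl (F := F)))
    have hn : ∀ i, nEl i ∈ K := fun i => Subgroup.subset_closure (Or.inr ⟨i, rfl⟩)
    have hx : ∀ (i : Fin m) (c : F), (el (sA_lt_sB i).ne c : SLm) ∈ K := by
      intro i c
      have hy : (el (sA_lt_sB i).ne' (-c) : SLm) ∈ (lowerU : Subgroup SLm) := by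
        rw [mem_lowerU]
        refine ⟨fun r s h => ?_, fun r => ?_⟩ <;>
          simp only [el_val, transvection, Matrix.add_apply, Matrix.one_apply, Matrix.single_apply]
        · rw [if_neg h.ne, if_neg, add_zero]
          rintro ⟨rfl, rfl⟩
          exact lt_asymm h (sA_lt_sB i)
        · rw [if_pos trivial, if_neg, add_zero]
          rintro ⟨rfl, h⟩
          exact (sA_lt_sB i).ne h
      have h := mul_mem (mul_mem (inv_mem (hn i)) (Subgroup.subset_closure (Or.inl (Or.inl hy)) : _ ∈ K)) (hn i)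
      rwa [← nEl_conj_x, show ∀ a b : SLm, a⁻¹ * (a * b * a⁻¹) * a = b from fun a b => by group] at h
    have hel : ∀ (d : ℕ) (a b : Fin (m + 1)) (h : a < b), b.val = a.val + d + 1 → ∀ c : F,
        (el h.ne c : SLm) ∈ K := by
      intro d
      induction d with
      | zero =>
        intro a b h hd c
        let i : Fin m := ⟨a.val, by have := b.isLt; omega⟩
        have ea : a = sA i := Fin.ext rfl
        have eb : b = sB i := Fin.ext (by simp only [sB, i, Fin.val_succ]; omega)
        have := hx i c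
        convert this using 3
      | succ d ih =>
        intro a b h hd c
        let b' : Fin (m + 1) := ⟨a.val + 1, by have := b.isLt; omega⟩
        have h1 : a < b' := by simp [b', Fin.lt_def]
        have h2 : b' < b := by simp only [b', Fin.lt_def]; omega
        rw [← el_comm h1.ne h2.ne h.ne c]
        have hb1 : ∀ t : F, (el h1.ne t : SLm) ∈ K := by
          let i : Fin m := ⟨a.val, by have := b.isLt; omega⟩
          have ea : a = sA i := Fin.ext rfl
          have eb : b' = sB i := Fin.ext rfl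
          intro t
          have := hx i t
          convert this using 3
        have hb2 : ∀ t : F, (el h2.ne t : SLm) ∈ K := ih b' b h2 (by simp only [b']; omega)
        exact mul_mem (mul_mem (mul_mem (hb1 _) (hb2 _)) (hb1 _)) (hb2 _)
    have hU : upper F (m + 1) ≤ K := upper_le_closure.trans ((Subgroup.closure_le _).2 (by
      rintro _ ⟨a, b, h, c, rfl⟩
      exact hel (b.val - a.val - 1) a b h (by rw [Fin.lt_def] at h; omega) c))
    have hT : (diagT : Subgroup SLm) ≤ K := fun t ht => Subgroup.subset_closure (Or.inl (Or.inr ht))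
    intro g _
    obtain ⟨a, ha, k, ⟨σ, hσ⟩, c, hc, rfl⟩ := exists_cell g
    have hB : (borelB : Subgroup SLm) ≤ K := fun b hb => by
      obtain ⟨u, hu, t, ht, rfl⟩ := mem_borel_split hb
      exact mul_mem (hU hu) (hT ht)
    exact mul_mem (mul_mem (hB ha) (mon_induction (P := (· ∈ K)) (fun t ht => hT ht)
      (fun i _ _ _ _ h => mul_mem h (hn i)) hσ)) (hB hc)
  N_cases k hk := by
    obtain ⟨σ, hσ⟩ := hk
    by_cases hex : ∃ a b, a < b ∧ σ a < σ b
    · obtain ⟨a, b, hab, hs⟩ := hex
      refine Or.inl ⟨el hs.ne (k.1 (σ a) a * 1 / k.1 (σ b) b), el_mem_upper hs _, ?_, ?_⟩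
      · intro e
        have h := congrArg (fun g : SLm => g.1 (σ a) (σ b)) e
        simp [el_val, transvection, val_one, hs.ne, hσ.entry_ne] at h
      · rw [mul_assoc, ← hσ.conj_el hab.ne, inv_mul_cancel_left]
        exact el_mem_upper hab _
    · refine Or.inr fun i a => ?_
      push Not at hex
      have hlt : σ.symm (sB i) < σ.symm (sA i) := by
        by_contra hle
        rcases lt_or_eq_of_le (not_lt.1 hle) with h | h
        · have := hex _ _ h
          rw [Equiv.apply_symm_apply, Equiv.apply_symm_apply] at this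
          exact not_lt.2 this (sA_lt_sB i)
        · exact (sA_lt_sB i).ne (σ.symm.injective h)
      have hne1 := hσ.entry_ne (σ.symm (sB i))
      have hne2 := hσ.entry_ne (σ.symm (sA i))
      have e := hσ.conj_el hlt.ne
        (a * k.1 (σ (σ.symm (sA i))) (σ.symm (sA i)) / k.1 (σ (σ.symm (sB i))) (σ.symm (sB i)))
      have e2 : k * el hlt.ne
          (a * k.1 (σ (σ.symm (sA i))) (σ.symm (sA i)) / k.1 (σ (σ.symm (sB i))) (σ.symm (sB i))) =
          el (sA_lt_sB i).ne' a * k := by
        rw [e]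
        congr 1
        refine Subtype.ext ?_
        rw [el_val, el_val, Equiv.apply_symm_apply, Equiv.apply_symm_apply]
        congr 1
        rw [Equiv.apply_symm_apply] at hne1 hne2
        field_simp
      rw [mul_assoc, ← e2, inv_mul_cancel_left]
      exact el_mem_upper hlt _

/-- At most one character of defect zero. -/
theorem eq_of_defect_zero {χ χ' : SLm → ℂ} (hχ : Cfsg.IsIrrCharacter SLm χ)
    (hχ' : Cfsg.IsIrrCharacter SLm χ')
    (hdeg : ∃ n : ℕ, χ 1 = (n : ℂ) ∧ p ^ (Nat.card SLm).factorization p ∣ n)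
    (hdeg' : ∃ n : ℕ, χ' 1 = (n : ℂ) ∧ p ^ (Nat.card SLm).factorization p ∣ n) : χ = χ' := by
  classical
  refine CfsgLib.DefectZero.eq_of_spherical (slData p) minPar (fun i b hb r s h _ => hb r s h)
    (fun i r s h hne => nEl_isMon i r s ?_) (fun f hl hr hsum h1 g => ?_) hχ hχ' hdeg hdeg'
  · intro e
    rcases lt_cases (i := i) h with ⟨e1, e2⟩ | h'
    · exact hne ⟨e2, e1⟩
    · rw [e, Equiv.swap_apply_self] at h'
      exact lt_irrefl _ (h'.trans (e ▸ h))
  obtain ⟨a, ha, k, ⟨σ, hσ⟩, c, hc, rfl⟩ := exists_cell g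
  rw [hr c hc, hl a ha]
  refine mon_induction (P := fun k => f k = 0) (fun t ht => ?_) (fun i k τ hτ hlt ih => ?_) hσ
  · rw [← one_mul t, hr t (diagT_le_borelB ht)]; exact h1
  let s : Finset SLm := Finset.univ.filter (· ∈ minPar i)
  have h := hsum i s (fun y => by simp [s]) k
  have hn : nEl i ∈ (minPar i : Subgroup SLm) := fun r s' h hne => nEl_isMon i r s' (by
    intro e
    rcases lt_cases (i := i) h with ⟨e1, e2⟩ | h'
    · exact hne ⟨e2, e1⟩
    · rw [e, Equiv.swap_apply_self] at h'
      exact lt_irrefl _ (h'.trans (e ▸ h)))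
  have hval : ∀ y ∈ s, f (k * y) = if y.1 (sB i) (sA i) = 0 then 0 else f (k * nEl i) := by
    intro y hy
    have hy' : y ∈ (minPar i : Subgroup SLm) := (Finset.mem_filter.1 hy).2
    split_ifs with h0
    · rw [hr y (fun r s' hrs => by
        by_cases hh : r = sB i ∧ s' = sA i
        · rw [hh.1, hh.2]; exact h0
        · exact hy' r s' hrs hh)]
      exact ih
    · set d := y.1 (sA i) (sA i) / y.1 (sB i) (sA i)
      set w : SLm := el (sA_lt_sB i).ne (-d) * y with hw
      have hxm : ∀ t : F, (el (sA_lt_sB i).ne t : SLm) ∈ (minPar i : Subgroup SLm) := fun t =>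
        fun r s' h _ => (mem_upper.1 (el_mem_upper (K := F) (sA_lt_sB i) t)).1 r s' h
      have hb : (nEl i)⁻¹ * w ∈ (borelB : Subgroup SLm) := by
        intro r s' hrs
        by_cases hh : r = sB i ∧ s' = sA i
        · rw [hh.1, hh.2, val_mul]
          have e := (nEl_inv_isMon (F := F) i).apply_mul w.1 (sA i) (sA i)
          rw [Equiv.swap_apply_left] at e
          rw [e, hw, val_mul, el_val, transvection_mul_apply, if_pos rfl]
          have : y.1 (sA i) (sA i) + -d * y.1 (sB i) (sA i) = 0 := by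
            simp only [d]; field_simp; ring
          rw [this, mul_zero]
        · exact (mul_mem (inv_mem hn) (mul_mem (hxm _) hy') : (nEl i)⁻¹ * w ∈ (minPar i : Subgroup SLm))
            r s' hrs hh
      have e : k * y = el (τ.injective.ne (sA_lt_sB i).ne)
          (k.1 (τ (sA i)) (sA i) * d / k.1 (τ (sB i)) (sB i)) * (k * nEl i) * ((nEl i)⁻¹ * w) := by
        rw [← mul_assoc (el _ _) k, ← hτ.conj_el (sA_lt_sB i).ne, hw]
        simp only [mul_assoc, mul_inv_cancel_left]
        rw [← mul_assoc (el _ d), el_mul, add_neg_cancel, el_zero, one_mul]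
      rw [e, hr _ hb, hl _ (upper_le_borelB (el_mem_upper hlt _))]
  rw [Finset.sum_congr rfl hval, Finset.sum_ite, Finset.sum_const_zero, zero_add, Finset.sum_const,
    nsmul_eq_mul] at h
  refine (mul_eq_zero.1 h).resolve_left (Nat.cast_ne_zero.2 (Finset.card_ne_zero.2 ⟨nEl i, ?_⟩))
  simp [s, hn, nEl_apply, (sA_lt_sB i).ne']

end CfsgLib.KnownSimple.SLBlocks
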