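import Cfsg.Agent.Lib.KnownSimple.SLBlocks.Main
import Cfsg.Agent.Lib.CharNormal.Kernel
import Cfsg.Agent.Lib.Char.DefectZero

/-!
# The Steinberg character of `PSL_n`
-/

set_option autoImplicit false
set_option linter.unusedSectionVars false
set_option linter.style.haveILetI false

open Matrix Cfsg

noncomputable section

namespace CfsgLib.KnownSimple.SLBlocks

variable {F : Type*} [Field F] [Fintype F] (p : ℕ) [Fact p.Prime] [CharP F p]

theorem psl_steinberg {n : ℕ} (hn : 2 ≤ n) :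
    ∃ χ : Matrix.ProjectiveSpecialLinearGroup (Fin n) F → ℂ,
      IsIrrCharacter (Matrix.ProjectiveSpecialLinearGroup (Fin n) F) χ ∧
      ∀ P : Sylow p (Matrix.ProjectiveSpecialLinearGroup (Fin n) F), χ 1 = Nat.card P ∧
        ∀ x : Matrix.ProjectiveSpecialLinearGroup (Fin n) F, x ∈ P → x ≠ 1 → χ x = 0 := by
  classical
  have hp : p.Prime := Fact.out
  obtain ⟨m, rfl⟩ : ∃ m, n = m + 1 := ⟨n - 1, by omega⟩
  obtain ⟨χ₀, hirr, hdeg, hz⟩ := exists_steinberg (F := F) (m := m) p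
  set Z := Subgroup.center (Matrix.SpecialLinearGroup (Fin (m + 1)) F)
  obtain ⟨ψ, hψ, he⟩ := CfsgLib.CharNormal.exists_irr_eq_comp_mk' Z hirr hz
  refine ⟨ψ, hψ, fun P => ?_⟩
  have hval : ∀ g, ψ (QuotientGroup.mk g) = χ₀ g := fun g => congrFun he g
  have hcard : (Nat.card (Matrix.SpecialLinearGroup (Fin (m + 1)) F)).factorization p =
      (Nat.card (Matrix.ProjectiveSpecialLinearGroup (Fin (m + 1)) F)).factorization p := by
    rw [Subgroup.card_eq_card_quotient_mul_card_subgroup Z,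
      Nat.factorization_mul Nat.card_pos.ne' Nat.card_pos.ne', Finsupp.add_apply,
      Nat.factorization_eq_zero_of_not_dvd (not_dvd_card_center p hn), add_zero]
  refine ⟨?_, fun x hx hx1 => ?_⟩
  · have h1 : ψ (1 : Matrix.ProjectiveSpecialLinearGroup (Fin (m + 1)) F) = χ₀ 1 := hval 1
    rw [h1, hdeg, P.card_eq_multiplicity, hcard]
  · obtain ⟨g, rfl⟩ := QuotientGroup.mk_surjective x
    have h2 : ψ (QuotientGroup.mk g) = χ₀ g := hval g
    refine h2.trans (CfsgLib.Char.vanish_of_defect_zero hirr hp (Nat.ordProj_dvd _ _)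
      (Nat.pow_succ_factorization_not_dvd Nat.card_pos.ne' hp) hdeg dvd_rfl ?_)
    obtain ⟨k, hk⟩ := IsPGroup.iff_orderOf.1 P.2 ⟨_, hx⟩
    rw [Subgroup.orderOf_mk] at hk
    have hdvd : orderOf (QuotientGroup.mk g : Matrix.ProjectiveSpecialLinearGroup (Fin (m + 1)) F) ∣
        orderOf g := orderOf_map_dvd (QuotientGroup.mk' Z) g
    refine dvd_trans ?_ hdvd
    rw [hk]
    refine dvd_pow_self p fun h0 => hx1 ?_
    rwa [h0, pow_zero, orderOf_eq_one_iff] at hk

end CfsgLib.KnownSimple.SLBlocks
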