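import Cfsg.Agent.Lib.KnownSimple.SLBlocks.Split
import Cfsg.Agent.S2421
import Cfsg.Agent.S0887
import Cfsg.Agent.Lib.GLUnipotent.Degree
import Cfsg.Agent.Lib.CharNormal.Basic

/-!
# The Steinberg character of the special linear group
-/

set_option autoImplicit false
set_option linter.unusedSectionVars false
set_option linter.style.haveILetI false

open Matrix CfsgLib.Fusion.UniTri CfsgLib.GLUnipotent

noncomputable section

namespace CfsgLib.KnownSimple.SLBlocks

variable {F : Type*} [Field F] [Fintype F] {m : ℕ}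

/-- The ambient group. -/
local notation "SLm" => Matrix.SpecialLinearGroup (Fin (m + 1)) F

theorem card_upper : Nat.card (upper F (m + 1)) = Fintype.card F ^ (m + 1).choose 2 := by
  classical
  let e : (upper F (m + 1)) ≃ ({z : Fin (m + 1) × Fin (m + 1) // z.1 < z.2} → F) :=
    { toFun := fun g z => g.1.1 z.1.1 z.1.2
      invFun := fun v => ⟨⟨Matrix.of fun r s => if h : r < s then v ⟨(r, s), h⟩ else if r = s then 1 else 0, by
          rw [Matrix.det_of_isUpperTriangular (fun x y (h : y < x) => by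
            rw [Matrix.of_apply, dif_neg (not_lt.2 h.le), if_neg h.ne'])]
          exact Finset.prod_eq_one fun x _ => by rw [Matrix.of_apply, dif_neg (lt_irrefl x), if_pos rfl]⟩,
        mem_upper.2 ⟨fun x y h => by
          show (if h : x < y then _ else _) = _
          rw [dif_neg (not_lt.2 h.le), if_neg h.ne'], fun x => by
          show (if h : x < x then _ else _) = _
          rw [dif_neg (lt_irrefl x), if_pos rfl]⟩⟩
      left_inv := fun g => by
        refine Subtype.ext (Subtype.ext (Matrix.ext_iff.1 fun r s => ?_))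
        show (if h : r < s then g.1.1 r s else if r = s then 1 else 0) = g.1.1 r s
        have hg := mem_upper.1 g.2
        rcases lt_trichotomy r s with h | rfl | h
        · rw [dif_pos h]
        · rw [dif_neg (lt_irrefl r), if_pos rfl, hg.2]
        · rw [dif_neg (not_lt.2 h.le), if_neg h.ne', hg.1 r s h]
      right_inv := fun v => funext fun z => by
        show (if h : z.1.1 < z.1.2 then _ else _) = _
        rw [dif_pos z.2] }
  have hc : Nat.card {z : Fin (m + 1) × Fin (m + 1) // z.1 < z.2} = (m + 1).choose 2 := by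
    let e' : {z : Fin (m + 1) × Fin (m + 1) // z.1 < z.2} ≃ Σ b : Fin (m + 1), Fin b.val :=
      { toFun := fun z => ⟨z.1.2, ⟨z.1.1.val, z.2⟩⟩
        invFun := fun w => ⟨(⟨w.2.val, w.2.isLt.trans w.1.isLt⟩, w.1), w.2.isLt⟩
        left_inv := fun z => rfl
        right_inv := fun w => rfl }
    rw [Nat.card_congr e', Nat.card_sigma]
    simp only [Nat.card_fin]
    rw [Fin.sum_univ_eq_sum_range (fun b => b) (m + 1), Finset.sum_range_id, Nat.choose_two_right]
  rw [Nat.card_congr e, Nat.card_fun, hc, Nat.card_eq_fintype_card]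

theorem gl_steinberg_degree (n : ℕ) :
    Cfsg.unipotentCharacterGL n F (fun _ => 1) 1 = ((Fintype.card F ^ n.choose 2 : ℕ) : ℂ) := by
  classical
  set q := Fintype.card F with hq
  have hq1 : 1 < q := Fintype.one_lt_card
  have h := degree_formula (F := F) (n := n) (q := q) rfl (ν := fun _ => 1) (by simp)
  have hdiff : ∀ i j : Fin n, i < j →
      ((qInt q (1 + j.val) : ℕ) : ℂ) - ((qInt q (1 + i.val) : ℕ) : ℂ) =
        (q : ℂ) ^ (1 + i.val) * (qInt q (j.val - i.val) : ℕ) := by
    intro i j hij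
    have : qInt q (1 + j.val) = qInt q (1 + i.val) + q ^ (1 + i.val) * qInt q (j.val - i.val) := by
      rw [qInt, qInt, qInt, show 1 + j.val = (1 + i.val) + (j.val - i.val) by rw [Fin.lt_def] at hij; omega,
        Finset.sum_range_add, Finset.mul_sum]
      simp [pow_add]
    rw [this]
    push_cast
    ring
  have hR : ∏ i : Fin n, ∏ j ∈ Finset.univ.filter (fun j : Fin n => i < j),
      (((qInt q (1 + j.val) : ℕ) : ℂ) - ((qInt q (1 + i.val) : ℕ) : ℂ)) =
      (q : ℂ) ^ (∑ i : Fin n, (n - 1 - i.val) * (1 + i.val)) * ∏ j : Fin n, ((qFact q j.val : ℕ) : ℂ) := by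
    rw [← Finset.prod_pow_eq_pow_sum]
    have hsum : ∏ i : Fin n, ∏ j ∈ Finset.univ.filter (fun j : Fin n => i < j),
        ((qInt q (j.val - i.val) : ℕ) : ℂ) = ∏ j : Fin n, ((qFact q j.val : ℕ) : ℂ) := by
      rw [Finset.prod_comm' (t' := Finset.univ) (s' := fun j : Fin n => Finset.univ.filter (fun i => i < j))
        (by simp)]
      refine Finset.prod_congr rfl fun j _ => ?_
      rw [qFact, Nat.cast_prod, ← Finset.prod_range_reflect]
      refine Finset.prod_bij (fun i _ => i.val) (fun i hi => ?_) (fun a _ b _ e => Fin.ext e)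
        (fun r hr => ⟨⟨r, (Finset.mem_range.1 hr).trans j.isLt⟩, ?_, rfl⟩) (fun i hi => ?_)
      · exact Finset.mem_range.2 (Finset.mem_filter.1 hi).2
      · exact Finset.mem_filter.2 ⟨Finset.mem_univ _, Finset.mem_range.1 hr⟩
      · have := (Finset.mem_filter.1 hi).2
        rw [Fin.lt_def] at this
        rw [show j.val - 1 - i.val + 1 = j.val - i.val by omega]
    rw [← hsum, ← Finset.prod_mul_distrib]
    refine Finset.prod_congr rfl fun i _ => ?_
    rw [Finset.prod_congr rfl fun j hj => hdiff i j (Finset.mem_filter.1 hj).2, Finset.prod_mul_distrib,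
      Finset.prod_const, ← pow_mul]
    congr 2
    rw [show (Finset.univ.filter fun j : Fin n => i < j) = Finset.Ioi i by ext; simp, Fin.card_Ioi,
      mul_comm]
  have hex : ∑ i : Fin n, (n - 1 - i.val) * (1 + i.val) = n.choose 2 + n * (n - 1) * (n - 2) / 6 := by
    rw [choose_three_eq]
    clear h hR hdiff
    induction n with
    | zero => simp
    | succ k ih =>
      rw [Fin.sum_univ_castSucc]
      simp only [Fin.val_castSucc, Fin.val_last, Nat.add_sub_cancel, Nat.sub_self, zero_mul, add_zero]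
      rw [Finset.sum_congr rfl fun i _ => show (k - i.val) * (1 + i.val) =
        (k - 1 - i.val) * (1 + i.val) + (1 + i.val) by
          have := i.isLt
          rw [show k - i.val = (k - 1 - i.val) + 1 by omega, add_mul, one_mul],
        Finset.sum_add_distrib, ih]
      have e : ∑ i : Fin k, (1 + i.val) = k.choose 2 + k := by
        rw [Finset.sum_add_distrib, Fin.sum_univ_eq_sum_range (fun b => b) k, Finset.sum_range_id,
          Nat.choose_two_right]
        simp [add_comm]
      rw [e, Nat.choose_succ_succ k 1, Nat.choose_succ_succ k 2, Nat.choose_one_right]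
      ring
  have hL : ∏ i : Fin n, ((qFact q (1 + i.val) : ℕ) : ℂ) =
      (∏ j ∈ Finset.range n, ((qInt q (j + 1) : ℕ) : ℂ)) * ∏ j : Fin n, ((qFact q j.val : ℕ) : ℂ) := by
    rw [← Fin.prod_univ_eq_prod_range (fun j => ((qInt q (j + 1) : ℕ) : ℂ)) n, ← Finset.prod_mul_distrib]
    refine Finset.prod_congr rfl fun i _ => ?_
    rw [add_comm 1, qFact_succ]
    push_cast
    ring
  have hne : ∀ j, ((qFact q j : ℕ) : ℂ) ≠ 0 := fun j => Nat.cast_ne_zero.2 (qFact_pos q j).ne'
  rw [hR, hex, hL] at h
  have hP : (∏ j ∈ Finset.range n, ((qInt q (j + 1) : ℕ) : ℂ)) ≠ 0 :=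
    Finset.prod_ne_zero_iff.2 fun j _ => Nat.cast_ne_zero.2 (qInt_pos q j).ne'
  have hQ : (∏ j : Fin n, ((qFact q j.val : ℕ) : ℂ)) ≠ 0 := Finset.prod_ne_zero_iff.2 fun j _ => hne _
  have hqC : (q : ℂ) ^ (n * (n - 1) * (n - 2) / 6) ≠ 0 := pow_ne_zero _ (Nat.cast_ne_zero.2 (by omega))
  rw [qFact, Nat.cast_prod] at h
  rw [Nat.cast_pow]
  refine mul_right_cancel₀ (mul_ne_zero hqC (mul_ne_zero hP hQ)) ?_
  rw [pow_add] at h
  linear_combination h

/-- The determinant as a homomorphism. -/
abbrev detHom (F : Type*) [Field F] (n : ℕ) : GL (Fin n) F →* Fˣ := Matrix.GeneralLinearGroup.det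

/-- `SL` as the kernel of the determinant. -/
def slKerEquiv (n : ℕ) : Matrix.SpecialLinearGroup (Fin n) F ≃* (detHom F n).ker where
  toFun g := ⟨Matrix.SpecialLinearGroup.toGL g, MonoidHom.mem_ker.2 (Units.ext (by simpa using g.2))⟩
  invFun g := ⟨(g.1 : Matrix (Fin n) (Fin n) F), congrArg Units.val (MonoidHom.mem_ker.1 g.2)⟩
  left_inv g := Subtype.ext rfl
  right_inv g := Subtype.ext (Units.ext rfl)
  map_mul' a b := Subtype.ext (map_mul _ a b)

/-- A character equal in degree to one of its constituents is that constituent. -/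
theorem eq_constituent {G : Type*} [Group G] [Fintype G] {φ θ : G → ℂ} (hφ : Cfsg.IsCharacter G φ)
    (hθ : Cfsg.IsIrrCharacter G θ) (h : Cfsg.classInner φ θ ≠ 0) (h1 : φ 1 = θ 1) : φ = θ := by
  classical
  obtain ⟨k, hk, hk'⟩ := CfsgLib.Char.char_decomp hφ
  set t : Cfsg.IrrCharacter G := ⟨θ, hθ⟩
  choose d hd0 hd using fun χ : Cfsg.IrrCharacter G => CfsgLib.Char.exists_degree_pos χ.2
  have hk0 : k t ≠ 0 := fun e => h (by have := hk' t; rw [e, Nat.cast_zero] at this; exact this)
  have hsum : ∑ χ, k χ * d χ = d t := by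
    have e := congrFun hk 1
    simp only [Finset.sum_apply, Pi.smul_apply, smul_eq_mul, hd] at e
    rw [h1, show θ 1 = (d t : ℂ) from hd t] at e
    exact_mod_cast e.symm
  have hz : ∀ χ ∈ Finset.univ, χ ≠ t → k χ = 0 := by
    intro χ _ hne
    by_contra h0
    have h2 := Finset.sum_le_sum_of_subset (f := fun χ => k χ * d χ) (Finset.subset_univ {t, χ})
    rw [Finset.sum_pair hne.symm, hsum] at h2
    have a1 : d t ≤ k t * d t := Nat.le_mul_of_pos_left _ (Nat.pos_of_ne_zero hk0)
    have a2 : 0 < k χ * d χ := Nat.mul_pos (Nat.pos_of_ne_zero h0) (hd0 χ)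
    omega
  have hkt : k t = 1 := by
    rw [Finset.sum_eq_single t (fun χ hu hne => by rw [hz χ hu hne, zero_mul]) (by simp)] at hsum
    exact Nat.eq_of_mul_eq_mul_right (hd0 t) (hsum.trans (one_mul _).symm)
  rw [hk, Finset.sum_eq_single t (fun χ hu hne => by rw [hz χ hu hne, Nat.cast_zero, zero_smul]) (by simp),
    hkt, Nat.cast_one, one_smul]

/-- The Steinberg character is constant on scalar matrices. -/
theorem unipotent_scalar {n : ℕ} (ν : Fin n → ℕ) (z : Matrix.SpecialLinearGroup (Fin n) F)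
    (hz : z ∈ Subgroup.center (Matrix.SpecialLinearGroup (Fin n) F)) :
    Cfsg.unipotentCharacterGL n F ν ((slKerEquiv n z : (detHom F n).ker) : GL (Fin n) F) =
      Cfsg.unipotentCharacterGL n F ν ((1 : (detHom F n).ker) : GL (Fin n) F) := by
  classical
  obtain ⟨r, -, hr⟩ := Matrix.SpecialLinearGroup.mem_center_iff.1 hz
  set w : GL (Fin n) F := ((slKerEquiv n z : (detHom F n).ker) : GL (Fin n) F)
  have hw : (w : Matrix (Fin n) (Fin n) F) = Matrix.scalar (Fin n) r := hr.symm
  have hcomm : ∀ x : GL (Fin n) F, w * x = x * w := fun x => Units.ext (by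
    rw [Units.val_mul, Units.val_mul, hw]
    exact (Matrix.scalar_commute r (fun r' => mul_comm _ _) _).eq)
  have key : ∀ μ : Fin n → ℕ, Cfsg.fixedPointCharacter (Cfsg.parabolicGL n F μ) w =
      Cfsg.fixedPointCharacter (Cfsg.parabolicGL n F μ) 1 := by
    intro μ
    have hmem : w ∈ Cfsg.parabolicGL n F μ := fun i j hij => by
      rw [hw, Matrix.scalar_apply, Matrix.diagonal_apply_ne]
      rintro rfl
      exact lt_irrefl _ hij
    simp only [Cfsg.fixedPointCharacter, MulAction.fixedBy_one_eq_univ]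
    congr 2
    have hfix : MulAction.fixedBy (GL (Fin n) F ⧸ Cfsg.parabolicGL n F μ) w = Set.univ := by
      refine Set.eq_univ_of_forall fun q => ?_
      obtain ⟨x, rfl⟩ := QuotientGroup.mk_surjective q
      show ((w * x : GL (Fin n) F) : GL (Fin n) F ⧸ Cfsg.parabolicGL n F μ) = _
      rw [hcomm, QuotientGroup.mk_mul_of_mem x hmem]
    rw [hfix]
  simp only [Cfsg.unipotentCharacterGL, OneMemClass.coe_one, key]

variable (p : ℕ) [Fact p.Prime] [CharP F p]

/-- An irreducible character of `SL_n` of degree `|U|`. -/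
theorem exists_steinberg :
    ∃ χ : SLm → ℂ, Cfsg.IsIrrCharacter SLm χ ∧
      χ 1 = ((p ^ (Nat.card SLm).factorization p : ℕ) : ℂ) ∧
      ∀ z ∈ Subgroup.center SLm, χ z = χ 1 := by
  classical
  obtain ⟨f, hp', hf⟩ := FiniteField.card F p
  set d := (m + 1).choose 2 with hd
  have hU : Fintype.card F ^ d = p ^ (Nat.card SLm).factorization p := by
    obtain ⟨P, hP⟩ := exists_sylow_upper (F := F) (m := m) p
    rw [← P.card_eq_multiplicity, hP, card_upper]
  set N := (detHom F (m + 1)).ker
  letI : Fintype N := Fintype.ofFinite _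
  have hst : Cfsg.IsIrrCharacter (GL (Fin (m + 1)) F) (Cfsg.unipotentCharacterGL (m + 1) F fun _ => 1) :=
    Cfsg.Agent.S2421.result _ monotone_const (by simp)
  have hres := CfsgLib.Char.isCharacter_res N (CfsgLib.Char.isCharacter_of_isIrr hst)
  obtain ⟨θ, hθi, hθ⟩ := CfsgLib.Char.exists_constituent hres (fun e => CfsgLib.Char.irr_one_ne_zero hst (congrFun e 1))
  obtain ⟨b, hb⟩ := CfsgLib.Char.exists_degree (CfsgLib.Char.isCharacter_of_isIrr hθi)
  obtain ⟨hdvd, hidx⟩ := Cfsg.Agent.S0887.result N _ hst θ hθi hθ _ b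
    (gl_steinberg_degree (F := F) (m + 1)) hb
  have hindex : N.index ∣ Fintype.card F - 1 := by
    rw [← Fintype.card_units, ← Nat.card_eq_fintype_card, Subgroup.index_ker]
    exact Subgroup.card_subgroup_dvd_card _
  have hk : Fintype.card F ^ d / b = 1 := by
    have h1 := hidx.trans hindex
    have h2 : Fintype.card F ^ d / b ∣ Fintype.card F ^ d := Nat.div_dvd_of_dvd hdvd
    have hco : Nat.Coprime (Fintype.card F - 1) (Fintype.card F ^ d) := by
      refine Nat.Coprime.pow_right _ ?_
      have h1q : 1 ≤ Fintype.card F := Fintype.card_pos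
      have := Nat.coprime_self_sub_right (m := 1) (n := Fintype.card F) h1q
      simpa [Nat.coprime_comm] using this.symm
    exact Nat.eq_one_of_dvd_coprimes hco h1 h2
  have hbd : Fintype.card F ^ d = b := (Nat.eq_of_dvd_of_div_eq_one hdvd hk).symm
  refine ⟨θ ∘ slKerEquiv (m + 1), CfsgLib.CharNormal.isIrr_comp_mulEquiv hθi _, ?_, fun z hz => ?_⟩
  · rw [Function.comp_apply, map_one, hb, Nat.cast_inj, ← hU, hbd]
  · have hresθ : (fun x : N => Cfsg.unipotentCharacterGL (m + 1) F (fun _ => 1) x) = θ :=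
      eq_constituent hres hθi hθ (by
        show Cfsg.unipotentCharacterGL (m + 1) F (fun _ => 1) ((1 : N) : GL (Fin (m + 1)) F) = _
        rw [OneMemClass.coe_one, gl_steinberg_degree, hb, ← hbd])
    simp only [Function.comp_apply, map_one]
    rw [← hresθ]
    exact unipotent_scalar _ z hz

end CfsgLib.KnownSimple.SLBlocks
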