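import Cfsg.Agent.Lib.KnownSimple.SLBlocks.Radical
import Cfsg.Agent.Lib.KnownSimple.SLBlocks.Steinberg
import Cfsg.Agent.Lib.Classical.GLOrder

/-!
# The `p`-blocks of the special linear group in the defining characteristic
-/

set_option autoImplicit false
set_option linter.unusedSectionVars false
set_option linter.style.haveILetI false

open Matrix Cfsg CfsgLib.Fusion.UniTri

noncomputable section

namespace CfsgLib.KnownSimple.SLBlocks

variable {F : Type*} [Field F] [Fintype F] (p : ℕ) [Fact p.Prime] [CharP F p] {n : ℕ}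

theorem not_dvd_card_units : ¬ p ∣ Nat.card Fˣ := by
  classical
  rw [Nat.card_eq_fintype_card, Fintype.card_units]
  obtain ⟨f, hp', hf⟩ := FiniteField.card F p
  intro h
  have h1 : p ∣ Fintype.card F := hf ▸ dvd_pow_self p f.ne_zero
  have h2 := Nat.dvd_sub h1 h
  rw [Nat.sub_sub_self Fintype.card_pos] at h2
  exact (Fact.out : p.Prime).not_dvd_one h2

theorem not_dvd_card_center (hn : 2 ≤ n) :
    ¬ p ∣ Nat.card (Subgroup.center (Matrix.SpecialLinearGroup (Fin n) F)) := by
  have : Nonempty (Fin n) := ⟨⟨0, by omega⟩⟩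
  rw [CfsgLib.Classical.card_center_SL]
  exact fun h => not_dvd_card_units (F := F) p (h.trans (Nat.gcd_dvd_right _ _))

theorem dvd_card (hn : 2 ≤ n) : p ∣ Nat.card (Matrix.SpecialLinearGroup (Fin n) F) := by
  classical
  obtain ⟨m, rfl⟩ : ∃ m, n = m + 1 := ⟨n - 1, by omega⟩
  obtain ⟨P, hP⟩ := exists_sylow_upper (F := F) (m := m) p
  have h := P.card_eq_multiplicity
  rw [hP, card_upper] at h
  by_contra hnd
  rw [Nat.factorization_eq_zero_of_not_dvd hnd, pow_zero] at h
  have : 1 < Fintype.card F ^ (m + 1).choose 2 :=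
    Nat.one_lt_pow (Nat.choose_pos (by omega)).ne' Fintype.one_lt_card
  omega

/-- The unique character of defect zero. -/
theorem exists_unique_defectZero (hn : 2 ≤ n) :
    ∃ χ₀ : IrrCharacter (Matrix.SpecialLinearGroup (Fin n) F),
      p ^ (Nat.card (Matrix.SpecialLinearGroup (Fin n) F)).factorization p ∣
        charDegree (χ₀ : Matrix.SpecialLinearGroup (Fin n) F → ℂ) ∧
      (χ₀ : Matrix.SpecialLinearGroup (Fin n) F → ℂ) 1 =
        ((p ^ (Nat.card (Matrix.SpecialLinearGroup (Fin n) F)).factorization p : ℕ) : ℂ) ∧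
      ∀ χ : IrrCharacter (Matrix.SpecialLinearGroup (Fin n) F),
        p ^ (Nat.card (Matrix.SpecialLinearGroup (Fin n) F)).factorization p ∣
          charDegree (χ : Matrix.SpecialLinearGroup (Fin n) F → ℂ) → χ = χ₀ := by
  classical
  obtain ⟨m, rfl⟩ : ∃ m, n = m + 1 := ⟨n - 1, by omega⟩
  obtain ⟨χ₀, hirr, hdeg, -⟩ := exists_steinberg (F := F) (m := m) p
  refine ⟨⟨χ₀, hirr⟩, ?_, hdeg, fun χ h => Subtype.ext ?_⟩
  · show _ ∣ ⌊(χ₀ 1).re⌋₊
    rw [hdeg, Complex.natCast_re, Nat.floor_natCast]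
  · exact eq_of_defect_zero p χ.2 hirr ⟨_, (CfsgLib.CharBlocks.coe_charDegree_irr χ).symm, h⟩
      ⟨_, hdeg, dvd_rfl⟩

theorem local_hyp (hn : 2 ≤ n) :
    ∀ D : Subgroup (Matrix.SpecialLinearGroup (Fin n) F), IsPGroup p D → D ≠ ⊥ →
      (∀ R : Subgroup (Matrix.SpecialLinearGroup (Fin n) F), IsPGroup p R → D ≤ R →
        R ≤ Subgroup.normalizer (D : Set (Matrix.SpecialLinearGroup (Fin n) F)) →
        (∀ g ∈ Subgroup.normalizer (D : Set (Matrix.SpecialLinearGroup (Fin n) F)), ∀ r ∈ R,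
          g * r * g⁻¹ ∈ R) → R ≤ D) →
      Subgroup.centralizer (D : Set (Matrix.SpecialLinearGroup (Fin n) F)) ≤
        D ⊔ Subgroup.center (Matrix.SpecialLinearGroup (Fin n) F) := fun D hD hne h =>
  haveI : NeZero n := ⟨by omega⟩
  centralizer_le D p hD hne h

theorem sylow_ne_bot (hn : 2 ≤ n) (P : Sylow p (Matrix.SpecialLinearGroup (Fin n) F)) :
    (P : Subgroup (Matrix.SpecialLinearGroup (Fin n) F)) ≠ ⊥ := by
  intro e
  have h := P.card_eq_multiplicity
  rw [e, Subgroup.card_bot] at h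
  exact (Nat.one_lt_pow ((Fact.out : p.Prime).factorization_pos_of_dvd Nat.card_pos.ne'
    (dvd_card p hn)).ne' (Fact.out : p.Prime).one_lt).ne h

theorem centralizer_sylow_le (hn : 2 ≤ n) (P : Sylow p (Matrix.SpecialLinearGroup (Fin n) F)) :
    Subgroup.centralizer ((P : Subgroup (Matrix.SpecialLinearGroup (Fin n) F)) : Set _) ≤
      (P : Subgroup (Matrix.SpecialLinearGroup (Fin n) F)) ⊔
        Subgroup.center (Matrix.SpecialLinearGroup (Fin n) F) :=
  local_hyp p hn _ P.2 (sylow_ne_bot p hn P) fun _ hS hle _ _ => (P.3 hS hle).le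

variable (M : Ideal AlgInt) (hM : IsPModular p M)
include hM

theorem card_blocks (hn : 2 ≤ n) :
    Nat.card {B : Set (IrrCharacter (Matrix.SpecialLinearGroup (Fin n) F)) // IsPBlock M B} =
      Nat.gcd n (Nat.card Fˣ) + 1 := by
  classical
  have := hM.2.1
  have : Nonempty (Fin n) := ⟨⟨0, by omega⟩⟩
  letI : Fintype (Matrix.SpecialLinearGroup (Fin n) F) := Fintype.ofFinite _
  obtain ⟨χ₀, h1, -, h2⟩ := exists_unique_defectZero (F := F) p hn
  rw [CfsgLib.Blocks.LocalCentral.card_blocks hM le_rfl (not_dvd_card_center p hn) (dvd_card p hn)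
    (local_hyp p hn) default (centralizer_sylow_le p hn _) χ₀ h1 h2, CfsgLib.Classical.card_center_SL,
    Fintype.card_fin]

theorem defect_dichotomy {B : Set (IrrCharacter (Matrix.SpecialLinearGroup (Fin n) F))} (hn : 2 ≤ n)
    (hB : IsPBlock M B) : blockDefect p B = 0 ∨
      blockDefect p B = (Nat.card (Matrix.SpecialLinearGroup (Fin n) F)).factorization p := by
  classical
  have := hM.2.1
  letI : Fintype (Matrix.SpecialLinearGroup (Fin n) F) := Fintype.ofFinite _
  obtain ⟨D, hD⟩ := CfsgLib.Blocks.exists_isDefectGroup (p := p) hB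
  have hc := CfsgLib.Blocks.card_defectGroup hM hB hD
  by_cases hbot : D = ⊥
  · subst hbot
    rw [Subgroup.card_bot] at hc
    exact Or.inl (by by_contra h; exact (Nat.one_lt_pow h (Fact.out : p.Prime).one_lt).ne hc)
  · obtain ⟨P, hP⟩ := CfsgLib.Blocks.LocalCentral.sylow_defect hM le_rfl (local_hyp p hn) hB hD hbot
    rw [← hP, P.card_eq_multiplicity] at hc
    exact Or.inr (Nat.pow_right_injective (Fact.out : p.Prime).two_le hc).symm

theorem card_defectZero_blocks (hn : 2 ≤ n) :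
    Nat.card {B : Set (IrrCharacter (Matrix.SpecialLinearGroup (Fin n) F)) //
      IsPBlock M B ∧ blockDefect p B = 0} = 1 := by
  classical
  have := hM.2.1
  have hp : p.Prime := Fact.out
  letI : Fintype (Matrix.SpecialLinearGroup (Fin n) F) := Fintype.ofFinite _
  obtain ⟨χ₀, h1, -, h2⟩ := exists_unique_defectZero (F := F) p hn
  rw [Nat.card_eq_one_iff_unique]
  refine ⟨⟨fun a b => Subtype.ext ?_⟩, ⟨⟨blockOf M (χ₀ : _ → ℂ), CfsgLib.Blocks.isPBlock_blockOf χ₀, ?_⟩⟩⟩
  · have key : ∀ B, IsPBlock M B → blockDefect p B = 0 →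
        χ₀ ∈ (B : Set (IrrCharacter (Matrix.SpecialLinearGroup (Fin n) F))) := by
      intro B hB h0
      obtain ⟨χ, hχ⟩ := CfsgLib.Blocks.IsPBlock.nonempty hB
      have hle : sInf ((fun χ : IrrCharacter (Matrix.SpecialLinearGroup (Fin n) F) =>
          (charDegree (χ : Matrix.SpecialLinearGroup (Fin n) F → ℂ)).factorization p) '' B) ≤
            (charDegree (χ : Matrix.SpecialLinearGroup (Fin n) F → ℂ)).factorization p :=
        Nat.sInf_le ⟨χ, hχ, rfl⟩
      rw [blockDefect] at h0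
      have hpos : charDegree (χ : Matrix.SpecialLinearGroup (Fin n) F → ℂ) ≠ 0 :=
        (Nat.pos_of_dvd_of_pos (CfsgLib.CharBlocks.charDegree_dvd_card χ.2) Nat.card_pos).ne'
      rw [← h2 χ ((hp.pow_dvd_iff_le_factorization hpos).2 (by omega))]
      exact hχ
    exact CfsgLib.Blocks.isPBlock_eq_of_mem a.2.1 b.2.1 (key _ a.2.1 a.2.2) (key _ b.2.1 b.2.2)
  · have hdvd : charDegree (χ₀ : Matrix.SpecialLinearGroup (Fin n) F → ℂ) ∣ Nat.card _ :=
      CfsgLib.CharBlocks.charDegree_dvd_card χ₀.2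
    have hnd : ¬ p ∣ Nat.card (Matrix.SpecialLinearGroup (Fin n) F) /
        charDegree (χ₀ : Matrix.SpecialLinearGroup (Fin n) F → ℂ) := fun hd => by
      have hm := mul_dvd_mul h1 hd
      rw [Nat.mul_div_cancel' hdvd, ← pow_succ] at hm
      exact Nat.pow_succ_factorization_not_dvd Nat.card_pos.ne' hp hm
    rw [CfsgLib.Blocks.blockOf_eq_singleton hM χ₀ hnd, blockDefect, Set.image_singleton, csInf_singleton]
    have := (hp.pow_dvd_iff_le_factorization (Nat.pos_of_dvd_of_pos hdvd Nat.card_pos).ne').1 h1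
    omega

end CfsgLib.KnownSimple.SLBlocks
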