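import Cfsg.Agent.Lib.Blocks.LocalCentral
import Mathlib

/-!
# Radical subgroups of the special linear group in the defining characteristic

A nontrivial radical `p`-subgroup of `SL_n` is the unipotent radical of the stabiliser of its fixed
flag, so its centraliser is the centre times a subgroup of it.
-/

set_option autoImplicit false
set_option linter.unusedSectionVars false

open Matrix

noncomputable section

namespace CfsgLib.KnownSimple.SLBlocks

variable {F : Type*} [Field F] {n : ℕ}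

theorem eq_one_of_pow (p : ℕ) [Fact p.Prime] [CharP F p] {a : F} {m : ℕ} (h : a ^ p ^ m = 1) :
    a = 1 := by
  have h2 : (a - 1) ^ p ^ m = 0 := by rw [sub_pow_char_pow, h, one_pow, sub_self]
  exact sub_eq_zero.1 (eq_zero_of_pow_eq_zero h2)

theorem det_one_add_nilpotent (p : ℕ) [Fact p.Prime] [CharP F p] [NeZero n]
    {N : Matrix (Fin n) (Fin n) F} (hN : IsNilpotent N) : (1 + N).det = 1 := by
  obtain ⟨r, hr⟩ := hN
  refine eq_one_of_pow p (m := r) ?_
  have h : (1 + N) ^ p ^ r = 1 := by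
    rw [add_pow_char_pow_of_commute (p := p) (n := r) (x := (1 : Matrix (Fin n) (Fin n) F)) (y := N)
      (Commute.one_left N), one_pow,
      pow_eq_zero_of_le (Nat.lt_pow_self (Fact.out : p.Prime).one_lt).le hr, add_zero]
  rw [← Matrix.det_pow, h, Matrix.det_one]

/-- The scalar matrix of a root of unity. -/
def scalarSL (l : F) (hl : l ^ n = 1) : Matrix.SpecialLinearGroup (Fin n) F :=
  ⟨l • 1, by rw [Matrix.det_smul, Matrix.det_one, Fintype.card_fin, hl, mul_one]⟩

theorem scalarSL_mem_center (l : F) (hl : l ^ n = 1) :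
    scalarSL l hl ∈ Subgroup.center (Matrix.SpecialLinearGroup (Fin n) F) :=
  Subgroup.mem_center_iff.2 fun g => Subtype.ext (by
    show g.1 * (l • 1 : Matrix (Fin n) (Fin n) F) = (l • 1) * g.1
    rw [Matrix.mul_smul, Matrix.smul_mul, mul_one, one_mul])

section

variable [Finite F] (D : Subgroup (Matrix.SpecialLinearGroup (Fin n) F))

/-- The ascending fixed flag. -/
def fixFlag : ℕ → Submodule F (Fin n → F)
  | 0 => ⊥
  | k + 1 => ⨅ d : D, (fixFlag k).comap (Matrix.toLin' d.1.1 - LinearMap.id)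

theorem mem_fixFlag_succ {k : ℕ} {x : Fin n → F} :
    x ∈ fixFlag D (k + 1) ↔ ∀ d ∈ D, d.1 *ᵥ x - x ∈ fixFlag D k := by
  simp [fixFlag]

theorem fixFlag_zero : fixFlag D 0 = ⊥ := rfl

theorem fixFlag_le_succ : ∀ k, fixFlag D k ≤ fixFlag D (k + 1)
  | 0 => by rw [fixFlag_zero]; exact bot_le
  | k + 1 => fun x hx => by
    rw [mem_fixFlag_succ] at hx ⊢
    exact fun d hd => fixFlag_le_succ k (hx d hd)

theorem fixFlag_mono {j k : ℕ} (h : j ≤ k) : fixFlag D j ≤ fixFlag D k :=
  monotone_nat_of_le_succ (fixFlag_le_succ D) h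

theorem fixFlag_stable {d : Matrix.SpecialLinearGroup (Fin n) F} (hd : d ∈ D) {k : ℕ} {x : Fin n → F}
    (hx : x ∈ fixFlag D k) : d.1 *ᵥ x ∈ fixFlag D k := by
  have := (mem_fixFlag_succ D).1 (fixFlag_le_succ D k hx) d hd
  simpa using add_mem this hx

theorem fixFlag_normalizer {g : Matrix.SpecialLinearGroup (Fin n) F}
    (hg : g ∈ Subgroup.normalizer (D : Set (Matrix.SpecialLinearGroup (Fin n) F))) :
    ∀ (k : ℕ) {x : Fin n → F}, x ∈ fixFlag D k → g.1 *ᵥ x ∈ fixFlag D k := by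
  intro k
  induction k with
  | zero => intro x hx; simp only [fixFlag_zero, Submodule.mem_bot] at hx ⊢; simp [hx]
  | succ k ih =>
    intro x hx
    rw [mem_fixFlag_succ] at hx ⊢
    intro d hd
    have hd' : g⁻¹ * d * g ∈ D :=
      ((Subgroup.mem_normalizer_iff.1 (inv_mem hg)) d).1 hd |> fun h => by simpa using h
    have h := ih (hx _ hd')
    rw [Matrix.mulVec_sub] at h
    have e : g.1 *ᵥ ((g⁻¹ * d * g).1 *ᵥ x) = d.1 *ᵥ (g.1 *ᵥ x) := by
      rw [Matrix.mulVec_mulVec, Matrix.mulVec_mulVec, ← Matrix.SpecialLinearGroup.coe_mul,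
        ← Matrix.SpecialLinearGroup.coe_mul]
      congr 2
      simp [mul_assoc]
      rfl
    rwa [e] at h

theorem fixFlag_lt (p : ℕ) [Fact p.Prime] [CharP F p] (hD : IsPGroup p D) {k : ℕ}
    (hk : fixFlag D k ≠ ⊤) : fixFlag D k < fixFlag D (k + 1) := by
  set W := fixFlag D k with hW
  let ρ : D → ((Fin n → F) ⧸ W) →ₗ[F] ((Fin n → F) ⧸ W) := fun d =>
    W.mapQ W (Matrix.toLin' d.1.1) fun x hx => by
      simpa using fixFlag_stable D d.2 hx
  have hρ : ∀ (d : D) (x : Fin n → F),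
      ρ d (Submodule.Quotient.mk x) = Submodule.Quotient.mk (d.1.1 *ᵥ x) := fun d x => by
    simp [ρ]
  letI : MulAction D ((Fin n → F) ⧸ W) :=
    { smul := fun d q => ρ d q
      one_smul := fun q => by
        obtain ⟨x, rfl⟩ := Submodule.Quotient.mk_surjective W q
        show ρ 1 _ = _
        rw [hρ]; simp
      mul_smul := fun a b q => by
        obtain ⟨x, rfl⟩ := Submodule.Quotient.mk_surjective W q
        show ρ (a * b) _ = ρ a (ρ b _)
        rw [hρ, hρ, hρ]; simp [Matrix.mulVec_mulVec] }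
  have : Finite ((Fin n → F) ⧸ W) := Quotient.finite _
  have : Nontrivial ((Fin n → F) ⧸ W) := Submodule.Quotient.nontrivial_iff.2 hk
  have hcard : p ∣ Nat.card ((Fin n → F) ⧸ W) := by
    obtain ⟨q, hq⟩ := exists_ne (0 : (Fin n → F) ⧸ W)
    have hpq : p • q = 0 := by
      rw [← Nat.cast_smul_eq_nsmul F, CharP.cast_eq_zero, zero_smul]
    rw [← addOrderOf_eq_prime hpq hq]
    exact addOrderOf_dvd_natCard q
  obtain ⟨q, hq, hq0⟩ := hD.exists_fixed_point_of_prime_dvd_card_of_fixed_point _ hcard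
    (a := (0 : (Fin n → F) ⧸ W)) (fun d => map_zero (ρ d))
  obtain ⟨x, rfl⟩ := Submodule.Quotient.mk_surjective W q
  refine lt_of_le_of_ne (fixFlag_le_succ D k) fun e => hq0 ?_
  have hx : x ∈ fixFlag D (k + 1) := by
    rw [mem_fixFlag_succ]
    intro d hd
    have h := hq ⟨d, hd⟩
    change ρ ⟨d, hd⟩ _ = _ at h
    rw [hρ, Submodule.Quotient.eq] at h
    exact h
  rw [← e] at hx
  exact ((Submodule.Quotient.mk_eq_zero W).2 hx).symm

theorem exists_fixFlag_top (p : ℕ) [Fact p.Prime] [CharP F p] (hD : IsPGroup p D) :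
    ∃ r, fixFlag D r = ⊤ := by
  by_contra h
  push Not at h
  have hmono : StrictMono fun k => Module.finrank F (fixFlag D k) :=
    strictMono_nat_of_lt_succ fun k => Submodule.finrank_lt_finrank_of_lt (fixFlag_lt D p hD (h k))
  have h1 := hmono.id_le (n + 1)
  have h2 := Submodule.finrank_le (fixFlag D (n + 1))
  rw [Module.finrank_fintype_fun_eq_card, Fintype.card_fin] at h2
  simp only [id_eq] at h1
  omega

/-- The elements acting trivially on the quotients of the fixed flag. -/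
def flagRadical : Subgroup (Matrix.SpecialLinearGroup (Fin n) F) :=
  let M : Submonoid (Matrix.SpecialLinearGroup (Fin n) F) :=
    { carrier := {g | ∀ k, ∀ x ∈ fixFlag D (k + 1), g.1 *ᵥ x - x ∈ fixFlag D k}
      one_mem' := fun k x _ => by simp
      mul_mem' := fun {a b} ha hb k x hx => by
        have h1 := hb k x hx
        have h2 : a.1 *ᵥ (b.1 *ᵥ x - x) ∈ fixFlag D k := by
          cases k with
          | zero =>
            rw [fixFlag_zero, Submodule.mem_bot] at h1 ⊢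
            simp [h1]
          | succ k => simpa using add_mem (fixFlag_le_succ D k (ha k _ h1)) h1
        have h3 := ha k x hx
        have e : (a * b).1 *ᵥ x - x = a.1 *ᵥ (b.1 *ᵥ x - x) + (a.1 *ᵥ x - x) := by
          rw [Matrix.SpecialLinearGroup.coe_mul, ← Matrix.mulVec_mulVec, Matrix.mulVec_sub]
          abel
        rw [e]
        exact add_mem h2 h3 }
  { M with
    inv_mem' := fun {g} hg => by
      have : g⁻¹ ∈ Submonoid.powers g := by
        rw [mem_powers_iff_mem_zpowers]; exact inv_mem (Subgroup.mem_zpowers g)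
      exact Submonoid.powers_le.2 (show g ∈ M from hg) this }

theorem mem_flagRadical {g : Matrix.SpecialLinearGroup (Fin n) F} :
    g ∈ flagRadical D ↔ ∀ k, ∀ x ∈ fixFlag D (k + 1), g.1 *ᵥ x - x ∈ fixFlag D k := Iff.rfl

theorem le_flagRadical : D ≤ flagRadical D := fun d hd => (mem_flagRadical D).2 fun _ _ hx =>
  (mem_fixFlag_succ D).1 hx d hd

theorem flagRadical_normal {g u : Matrix.SpecialLinearGroup (Fin n) F}
    (hg : g ∈ Subgroup.normalizer (D : Set (Matrix.SpecialLinearGroup (Fin n) F)))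
    (hu : u ∈ flagRadical D) : g * u * g⁻¹ ∈ flagRadical D := by
  rw [mem_flagRadical] at hu ⊢
  intro k x hx
  have h := fixFlag_normalizer D hg k (hu k _ (fixFlag_normalizer D (inv_mem hg) (k + 1) hx))
  rw [Matrix.mulVec_sub, Matrix.mulVec_mulVec, Matrix.mulVec_mulVec, Matrix.mulVec_mulVec,
    ← Matrix.SpecialLinearGroup.coe_mul, ← Matrix.SpecialLinearGroup.coe_mul,
    ← Matrix.SpecialLinearGroup.coe_mul, mul_inv_cancel, Matrix.SpecialLinearGroup.coe_one,
    Matrix.one_mulVec] at h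
  exact h

theorem isPGroup_flagRadical (p : ℕ) [Fact p.Prime] [CharP F p] [NeZero n] {r : ℕ}
    (hr : fixFlag D r = ⊤) : IsPGroup p (flagRadical D) := by
  rintro ⟨g, hg⟩
  rw [mem_flagRadical] at hg
  refine ⟨r, Subtype.ext (Subtype.ext ?_)⟩
  set N : Matrix (Fin n) (Fin n) F := g.1 - 1 with hN
  have hk : ∀ j k, j + k = r → ∀ x, (N ^ j) *ᵥ x ∈ fixFlag D k := by
    intro j
    induction j with
    | zero => intro k hk x; rw [show k = r by omega, hr]; exact Submodule.mem_top
    | succ j ih =>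
      intro k hk x
      have h := hg k _ (ih (k + 1) (by omega) x)
      rw [pow_succ', ← Matrix.mulVec_mulVec, hN, Matrix.sub_mulVec, Matrix.one_mulVec]
      exact h
  have hNr : N ^ r = 0 := Matrix.ext_iff.1 <| fun i j => by
    have h := hk r 0 (by omega) (Pi.single j 1)
    rw [fixFlag_zero, Submodule.mem_bot] at h
    simpa using congrFun h i
  show g.1 ^ p ^ r = 1
  rw [show g.1 = 1 + N by simp [hN],
    add_pow_char_pow_of_commute (p := p) (n := r) (x := (1 : Matrix (Fin n) (Fin n) F)) (y := N)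
      (Commute.one_left N), one_pow,
    pow_eq_zero_of_le (Nat.lt_pow_self (Fact.out : p.Prime).one_lt).le hNr, add_zero]

/-- Rank one elements of the radical commute with the centraliser. -/
theorem rankOne_rel (p : ℕ) [Fact p.Prime] [CharP F p] [NeZero n]
    {c : Matrix.SpecialLinearGroup (Fin n) F}
    (hc : ∀ u ∈ flagRadical D, u * c = c * u) (v : Fin n → F) (φ : (Fin n → F) →ₗ[F] F) (hφv : φ v = 0)
    (h : ∀ k, ∀ x ∈ fixFlag D (k + 1), φ x • v ∈ fixFlag D k) (x : Fin n → F) :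
    φ x • (c.1 *ᵥ v) = φ (c.1 *ᵥ x) • v := by
  let N : Matrix (Fin n) (Fin n) F := LinearMap.toMatrix' (φ.smulRight v)
  have hNv : ∀ y, N *ᵥ y = φ y • v := fun y => by
    rw [← Matrix.toLin'_apply]
    simp [N]
  have hN2 : N ^ 2 = 0 := Matrix.ext_iff.1 <| fun i j => by
    have : (N ^ 2) *ᵥ Pi.single j 1 = 0 := by
      rw [pow_two, ← Matrix.mulVec_mulVec, hNv, hNv, map_smul, hφv, smul_zero, zero_smul]
    simpa using congrFun this i
  let u : Matrix.SpecialLinearGroup (Fin n) F := ⟨1 + N, det_one_add_nilpotent p ⟨2, hN2⟩⟩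
  have hu : u ∈ flagRadical D := (mem_flagRadical D).2 fun k y hy => by
    show (1 + N) *ᵥ y - y ∈ _
    rw [Matrix.add_mulVec, Matrix.one_mulVec, add_sub_cancel_left, hNv]
    exact h k y hy
  have e : (1 + N) * c.1 = c.1 * (1 + N) := congrArg Subtype.val (hc u hu)
  rw [add_mul, mul_add, one_mul, mul_one, add_right_inj] at e
  have e2 := congrArg (· *ᵥ x) e
  simp only [← Matrix.mulVec_mulVec, hNv, Matrix.mulVec_smul] at e2
  exact e2.symm

theorem exists_dual_of_notMem {W : Submodule F (Fin n → F)} {x : Fin n → F} (hx : x ∉ W) :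
    ∃ φ : (Fin n → F) →ₗ[F] F, φ x ≠ 0 ∧ ∀ y ∈ W, φ y = 0 := by
  obtain ⟨φ, hφ, hW⟩ := Submodule.exists_dual_map_eq_bot_of_notMem hx inferInstance
  exact ⟨φ, hφ, fun y hy => (Submodule.mem_bot F).1 (hW ▸ Submodule.mem_map_of_mem hy)⟩

/-- The centraliser of the radical of the fixed flag. -/
theorem centralizer_flagRadical_le (p : ℕ) [Fact p.Prime] [CharP F p] [NeZero n] (hD : IsPGroup p D)
    (hne : D ≠ ⊥) :
    Subgroup.centralizer (flagRadical D : Set (Matrix.SpecialLinearGroup (Fin n) F)) ≤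
      flagRadical D ⊔ Subgroup.center (Matrix.SpecialLinearGroup (Fin n) F) := by
  classical
  intro c hc
  have hc' : ∀ u ∈ flagRadical D, u * c = c * u := fun u hu => Subgroup.mem_centralizer_iff.1 hc u hu
  obtain ⟨r₀, hr₀⟩ := exists_fixFlag_top D p hD
  set r := Nat.find (⟨r₀, hr₀⟩ : ∃ r, fixFlag D r = ⊤) with hrdef
  have hr : fixFlag D r = ⊤ := Nat.find_spec (⟨r₀, hr₀⟩ : ∃ r, fixFlag D r = ⊤)
  have hmin : ∀ k < r, fixFlag D k ≠ ⊤ := fun k hk => Nat.find_min (⟨r₀, hr₀⟩ : ∃ r, fixFlag D r = ⊤) hk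
  have h0 : fixFlag D 0 ≠ ⊤ := by
    rw [fixFlag_zero]; exact bot_ne_top
  have h1 : fixFlag D 1 ≠ ⊤ := fun e => hne (le_bot_iff.1 fun d hd => Subgroup.mem_bot.2 <| Subtype.ext <|
    Matrix.ext_iff.1 fun i j => by
      have h := (mem_fixFlag_succ D).1 (e ▸ Submodule.mem_top : Pi.single j 1 ∈ fixFlag D 1) d hd
      rw [fixFlag_zero, Submodule.mem_bot, sub_eq_zero] at h
      simpa [Matrix.one_apply, Pi.single_apply] using congrFun h i)
  have hr2 : 2 ≤ r := by
    by_contra h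
    interval_cases r
    · exact h0 hr
    · exact h1 hr
  obtain ⟨v0, hv0, hv0ne⟩ := SetLike.exists_of_lt (fixFlag_lt D p hD h0)
  have hv0ne' : v0 ≠ 0 := fun e => hv0ne (e ▸ Submodule.zero_mem _)
  -- scalar on the first step, and modulo it
  obtain ⟨x0, -, hx0⟩ := SetLike.exists_of_lt (lt_top_iff_ne_top.2 h1)
  obtain ⟨φ0, hφ0, hφ0W⟩ := exists_dual_of_notMem hx0
  have hA : ∀ v ∈ fixFlag D 1, ∀ φ : (Fin n → F) →ₗ[F] F, (∀ y ∈ fixFlag D 1, φ y = 0) →
      ∀ x, φ x • (c.1 *ᵥ v) = φ (c.1 *ᵥ x) • v := fun v hv φ hφ x =>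
    rankOne_rel D p hc' v φ (hφ v hv) (fun k y hy => by
      rcases Nat.eq_zero_or_pos k with rfl | hk
      · rw [hφ y hy, zero_smul]; exact Submodule.zero_mem _
      · exact Submodule.smul_mem _ _ (fixFlag_mono D hk hv)) x
  set l := φ0 (c.1 *ᵥ x0) / φ0 x0 with hl
  have hl1 : ∀ v ∈ fixFlag D 1, c.1 *ᵥ v = l • v := fun v hv => by
    rw [hl, div_eq_inv_mul, mul_smul, ← hA v hv φ0 hφ0W x0, smul_smul, inv_mul_cancel₀ hφ0, one_smul]
  have hl2 : ∀ x, c.1 *ᵥ x - l • x ∈ fixFlag D 1 := by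
    intro x
    by_contra hx
    obtain ⟨φ, hφ, hφW⟩ := exists_dual_of_notMem hx
    apply hφ
    have h := hA v0 hv0 φ hφW x
    rw [hl1 v0 hv0, smul_smul] at h
    rw [map_sub, map_smul, smul_eq_mul, ← smul_left_injective F hv0ne' h, mul_comm, sub_self]
  -- scalar below the last step
  obtain ⟨x1, -, hx1⟩ := SetLike.exists_of_lt (lt_top_iff_ne_top.2 (hmin (r - 1) (by omega)))
  obtain ⟨φ1, hφ1, hφ1W⟩ := exists_dual_of_notMem hx1
  have hB : ∀ w ∈ fixFlag D (r - 1), c.1 *ᵥ w = (φ1 (c.1 *ᵥ x1) / φ1 x1) • w := fun w hw => by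
    rw [div_eq_inv_mul, mul_smul, ← rankOne_rel D p hc' w φ1 (hφ1W w hw) (fun k y hy => by
      by_cases hk : k + 1 ≤ r - 1
      · rw [hφ1W y (fixFlag_mono D hk hy), zero_smul]; exact Submodule.zero_mem _
      · exact Submodule.smul_mem _ _ (fixFlag_mono D (by omega) hw)) x1, smul_smul,
      inv_mul_cancel₀ hφ1, one_smul]
  have hl3 : ∀ w ∈ fixFlag D (r - 1), c.1 *ᵥ w = l • w := by
    have e := hB v0 (fixFlag_mono D (by omega) hv0)
    rw [hl1 v0 hv0] at e
    intro w hw
    rw [hB w hw, smul_left_injective F hv0ne' e]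
  have hl0 : l ≠ 0 := fun e => hv0ne' (by
    have h := hl1 v0 hv0
    rw [e, zero_smul] at h
    have := congrArg ((c⁻¹).1 *ᵥ ·) h
    simp only [Matrix.mulVec_mulVec, ← Matrix.SpecialLinearGroup.coe_mul, inv_mul_cancel,
      Matrix.SpecialLinearGroup.coe_one, Matrix.one_mulVec, Matrix.mulVec_zero] at this
    exact this)
  set N : Matrix (Fin n) (Fin n) F := l⁻¹ • c.1 - 1 with hN
  have hNv : ∀ x, N *ᵥ x = l⁻¹ • (c.1 *ᵥ x - l • x) := fun x => by
    rw [hN, Matrix.sub_mulVec, Matrix.smul_mulVec, Matrix.one_mulVec, smul_sub, smul_smul,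
      inv_mul_cancel₀ hl0, one_smul]
  have hN2 : N ^ 2 = 0 := Matrix.ext_iff.1 <| fun i j => by
    have : (N ^ 2) *ᵥ Pi.single j 1 = 0 := by
      rw [pow_two, ← Matrix.mulVec_mulVec, hNv, hl3 _ ?_, sub_self, smul_zero]
      rw [hNv]
      exact Submodule.smul_mem _ _ (fixFlag_mono D (by omega) (hl2 _))
    simpa using congrFun this i
  have hc1 : c.1 = l • (1 + N) := by
    rw [hN, add_sub_cancel, smul_smul, mul_inv_cancel₀ hl0, one_smul]
  have hln : l ^ n = 1 := by
    have h := c.2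
    rwa [hc1, Matrix.det_smul, det_one_add_nilpotent p ⟨2, hN2⟩, Fintype.card_fin, mul_one] at h
  let u : Matrix.SpecialLinearGroup (Fin n) F := ⟨1 + N, det_one_add_nilpotent p ⟨2, hN2⟩⟩
  have hu : u ∈ flagRadical D := (mem_flagRadical D).2 fun k x hx => by
    show (1 + N) *ᵥ x - x ∈ _
    rw [Matrix.add_mulVec, Matrix.one_mulVec, add_sub_cancel_left, hNv]
    rcases Nat.eq_zero_or_pos k with rfl | hk
    · rw [hl3 x (fixFlag_mono D (by omega) hx), sub_self, smul_zero]; exact Submodule.zero_mem _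
    · exact Submodule.smul_mem _ _ (fixFlag_mono D hk (hl2 x))
  have e : c = u * scalarSL l hln := Subtype.ext (by
    show c.1 = (1 + N) * (l • 1 : Matrix (Fin n) (Fin n) F)
    rw [hc1, Matrix.mul_smul, mul_one])
  rw [e]
  exact Subgroup.mul_mem_sup hu (scalarSL_mem_center l hln)

/-- Radical subgroups of `SL_n`. -/
theorem centralizer_le (p : ℕ) [Fact p.Prime] [CharP F p] [NeZero n] (hD : IsPGroup p D) (hne : D ≠ ⊥)
    (hrad : ∀ R : Subgroup (Matrix.SpecialLinearGroup (Fin n) F), IsPGroup p R → D ≤ R →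
      R ≤ Subgroup.normalizer (D : Set (Matrix.SpecialLinearGroup (Fin n) F)) →
      (∀ g ∈ Subgroup.normalizer (D : Set (Matrix.SpecialLinearGroup (Fin n) F)), ∀ r ∈ R,
        g * r * g⁻¹ ∈ R) → R ≤ D) :
    Subgroup.centralizer (D : Set (Matrix.SpecialLinearGroup (Fin n) F)) ≤
      D ⊔ Subgroup.center (Matrix.SpecialLinearGroup (Fin n) F) := by
  obtain ⟨r, hr⟩ := exists_fixFlag_top D p hD
  have hSp := isPGroup_flagRadical D p hr
  set S := flagRadical D with hS
  set N := Subgroup.normalizer (D : Set (Matrix.SpecialLinearGroup (Fin n) F))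
  have hRS : D ≤ S := le_flagRadical D
  have hSR : S ⊓ N ≤ D := hrad (S ⊓ N) (hSp.to_le inf_le_left)
    (le_inf hRS Subgroup.le_normalizer) inf_le_right
    fun g hg u hu => ⟨flagRadical_normal D hg hu.1, N.mul_mem (N.mul_mem hg hu.2) (N.inv_mem hg)⟩
  have hle : S ≤ D := by
    by_contra hle
    have hlt : D.subgroupOf S < ⊤ :=
      lt_of_le_of_ne le_top fun e => hle (Subgroup.subgroupOf_eq_top.1 e)
    have := hSp.isNilpotent
    obtain ⟨y, hy, hyR⟩ := SetLike.exists_of_lt (Group.normalizerCondition_of_isNilpotent _ hlt)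
    refine hyR (hSR ⟨y.2, ?_⟩)
    show (y : Matrix.SpecialLinearGroup (Fin n) F) ∈ Subgroup.normalizer (D : Set _)
    rw [Subgroup.mem_normalizer_iff]
    intro h
    have hy' := Subgroup.mem_normalizer_iff.1 hy
    refine ⟨fun hh => (hy' ⟨h, hRS hh⟩).1 hh, fun hh => ?_⟩
    have hhS : h ∈ S := by
      have := mul_mem (mul_mem (inv_mem y.2) (hRS hh)) y.2
      simpa [mul_assoc] using this
    exact (hy' ⟨h, hhS⟩).2 hh
  have e : S = D := le_antisymm hle hRS
  have := centralizer_flagRadical_le D p hD hne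
  rwa [← hS, e] at this

end

end CfsgLib.KnownSimple.SLBlocks
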