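import Cfsg.Agent.Lib.KnownSimple.SLBlocks.Main
import Cfsg.Agent.Lib.CharBlocks.SL2Degrees

/-!
# The blocks of `SL(2, q)`, `q` odd, in the defining characteristic
-/

set_option autoImplicit false
set_option linter.unusedSectionVars false
set_option linter.style.haveILetI false

open Matrix Cfsg

noncomputable section

namespace CfsgLib.KnownSimple.SLBlocks

variable {F : Type*} [Field F] [Fintype F]

/-- The ambient group. -/
local notation "S2" => Matrix.SpecialLinearGroup (Fin 2) F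

theorem neg_one_mem_center : (-1 : S2) ∈ Subgroup.center S2 :=
  Subgroup.mem_center_iff.2 fun g => Subtype.ext (by
    simp [Matrix.SpecialLinearGroup.coe_neg, Matrix.SpecialLinearGroup.coe_mul])

theorem sign_dichotomy (χ : IrrCharacter S2) :
    (χ : S2 → ℂ) (-1) = (χ : S2 → ℂ) 1 ∨ (χ : S2 → ℂ) (-1) = -(χ : S2 → ℂ) 1 := by
  obtain ⟨n, ρ, hirr, e⟩ := χ.2
  haveI := hirr
  obtain ⟨c, hc⟩ := CfsgLib.Char.exists_eq_smul_id ρ (ρ (-1)) fun g => by
    show ρ (-1) * ρ g = ρ g * ρ (-1)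
    rw [← map_mul, ← map_mul, Subgroup.mem_center_iff.1 neg_one_mem_center g]
  have hn : n ≠ 0 := by
    intro h0
    subst h0
    exact CfsgLib.Char.irr_one_ne_zero χ.2 (by rw [← e]; simp [Representation.character])
  have hsq : ρ (-1) * ρ (-1) = LinearMap.id := by
    rw [← map_mul, neg_mul_neg, one_mul, map_one]; rfl
  have : Nonempty (Fin n) := ⟨⟨0, by omega⟩⟩
  have hc2 : c * c = 1 := by
    have h := congrFun (congrArg (fun T : (Fin n → ℂ) →ₗ[ℂ] (Fin n → ℂ) => T (fun _ => (1 : ℂ))) hsq)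
      (Classical.arbitrary (Fin n))
    simpa [hc, Module.End.mul_apply] using h
  have h1 : (χ : S2 → ℂ) (-1) = c * (χ : S2 → ℂ) 1 := by
    rw [← e]
    simp only [Representation.character, hc, map_smul, smul_eq_mul, map_one]
    rfl
  rcases mul_self_eq_one_iff.1 hc2 with rfl | rfl
  · exact Or.inl (by rw [h1, one_mul])
  · exact Or.inr (by rw [h1, neg_one_mul])

variable (p : ℕ) [Fact p.Prime] [CharP F p] (M : Ideal AlgInt) (hM : IsPModular p M)

theorem two_ne_zero_field (hp : p ≠ 2) : (2 : F) ≠ 0 := by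
  intro h
  have h' : ((2 : ℕ) : F) = 0 := by exact_mod_cast h
  rw [CharP.cast_eq_zero_iff F p] at h'
  exact hp ((Nat.prime_dvd_prime_iff_eq Fact.out Nat.prime_two).1 h')

theorem neg_one_ne_one (hp : p ≠ 2) : (-1 : S2) ≠ 1 := by
  intro e
  have h := congrArg (fun g : S2 => g.1 0 0) e
  simp only [Matrix.SpecialLinearGroup.coe_neg, Matrix.SpecialLinearGroup.coe_one, Matrix.neg_apply,
    Matrix.one_apply_eq] at h
  exact two_ne_zero_field p hp (by linear_combination -h)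

theorem exists_odd_sign (hp : p ≠ 2) :
    ∃ χ : IrrCharacter S2, (χ : S2 → ℂ) (-1) = -(χ : S2 → ℂ) 1 := by
  classical
  letI : Fintype S2 := Fintype.ofFinite _
  by_contra h
  push Not at h
  have hconj := (CfsgLib.Char.isConj_iff_forall_irr (-1 : S2) 1).2 fun χ =>
    (sign_dichotomy χ).resolve_right (h χ)
  obtain ⟨c, hc⟩ := isConj_iff.1 hconj
  rw [Subgroup.mem_center_iff.1 neg_one_mem_center c, mul_inv_cancel_right] at hc
  exact neg_one_ne_one p hp hc

include hM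

theorem sign_sameBlock (hp : p ≠ 2) {χ ψ : IrrCharacter S2} (h : SameBlock M (χ : S2 → ℂ) (ψ : S2 → ℂ))
    (hχ : (χ : S2 → ℂ) (-1) = (χ : S2 → ℂ) 1) : (ψ : S2 → ℂ) (-1) = (ψ : S2 → ℂ) 1 := by
  classical
  have := hM.2.1
  letI : Fintype S2 := Fintype.ofFinite _
  refine (sign_dichotomy ψ).resolve_right fun hψ => ?_
  have h1 := h (-1)
  have hcen : Subgroup.centralizer ({(-1 : S2)} : Set S2) = ⊤ := by
    rw [Subgroup.centralizer_eq_top_iff_subset, Set.singleton_subset_iff]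
    exact neg_one_mem_center
  simp only [centralChar, hcen, Subgroup.index_top, Nat.cast_one, one_mul, hχ, hψ] at h1
  rw [div_self (CfsgLib.Char.irr_one_ne_zero χ.2), neg_div,
    div_self (CfsgLib.Char.irr_one_ne_zero ψ.2)] at h1
  have h2 : (((2 : ℕ) : CfsgLib.Blocks.locRing M) : ℂ) = (1 : ℂ) - -1 := by
    rw [SubringClass.coe_natCast]; norm_num
  rw [← h2, ← CfsgLib.Blocks.res_eq_zero_iff] at h1
  have := (CfsgLib.Blocks.res_natCast_eq_zero_iff M hM 2).1 h1
  exact hp ((Nat.prime_dvd_prime_iff_eq Fact.out Nat.prime_two).1 this)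

theorem sl_two_blocks (hp : p ≠ 2) :
    (∀ B : Set (IrrCharacter S2), IsPBlock M B ↔
      (B = {χ : IrrCharacter S2 | (χ : S2 → ℂ) 1 = (Fintype.card F : ℂ)} ∨
       B = {χ : IrrCharacter S2 | (χ : S2 → ℂ) (-1) = (χ : S2 → ℂ) 1 ∧ (χ : S2 → ℂ) 1 ≠ (Fintype.card F : ℂ)} ∨
       B = {χ : IrrCharacter S2 | (χ : S2 → ℂ) (-1) = -(χ : S2 → ℂ) 1})) ∧
    Nat.card {B : Set (IrrCharacter S2) // IsPBlock M B} = 3 ∧
    ∀ P : Sylow p S2,
      IsDefectGroup p M {χ : IrrCharacter S2 | (χ : S2 → ℂ) (-1) = (χ : S2 → ℂ) 1 ∧ (χ : S2 → ℂ) 1 ≠ (Fintype.card F : ℂ)} (P : Subgroup S2) ∧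
      IsDefectGroup p M {χ : IrrCharacter S2 | (χ : S2 → ℂ) (-1) = -(χ : S2 → ℂ) 1} (P : Subgroup S2) := by
  classical
  have := hM.2.1
  have hpr : p.Prime := Fact.out
  letI : Fintype S2 := Fintype.ofFinite _
  have hn : 2 ≤ 2 := le_rfl
  obtain ⟨χ₀, hd0, hdeg0, huniq⟩ := exists_unique_defectZero (F := F) p hn
  -- the order of a Sylow subgroup
  have hq : p ^ (Nat.card S2).factorization p = Fintype.card F := by
    obtain ⟨P, hP⟩ := exists_sylow_upper (F := F) (m := 1) p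
    rw [← P.card_eq_multiplicity, hP, card_upper]
    simp
  have hst : (χ₀ : S2 → ℂ) = CfsgLib.SL2Table.stS := by
    have h : (⟨_, CfsgLib.SL2Table.isIrr_stS⟩ : IrrCharacter S2) = χ₀ := huniq _ (by
      show _ ∣ ⌊(CfsgLib.SL2Table.stS (1 : S2)).re⌋₊
      rw [CfsgLib.SL2Table.stS_one, Complex.natCast_re, Nat.floor_natCast, hq])
    rw [← h]
  have hzero : ∀ χ : IrrCharacter S2, (χ : S2 → ℂ) 1 = (Fintype.card F : ℂ) → χ = χ₀ := fun χ h =>
    huniq χ (by
      show _ ∣ ⌊((χ : S2 → ℂ) 1).re⌋₊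
      rw [h, Complex.natCast_re, Nat.floor_natCast, hq])
  have hdeg : (χ₀ : S2 → ℂ) 1 = (Fintype.card F : ℂ) := by rw [hdeg0, hq]
  have hsign0 : (χ₀ : S2 → ℂ) (-1) = (χ₀ : S2 → ℂ) 1 := by
    rw [hst]; exact CfsgLib.CharBlocks.SL2Deg.stS_center neg_one_mem_center
  set T₀ := {χ : IrrCharacter S2 | (χ : S2 → ℂ) 1 = (Fintype.card F : ℂ)}
  set T₁ := {χ : IrrCharacter S2 | (χ : S2 → ℂ) (-1) = (χ : S2 → ℂ) 1 ∧ (χ : S2 → ℂ) 1 ≠ (Fintype.card F : ℂ)}
  set T₂ := {χ : IrrCharacter S2 | (χ : S2 → ℂ) (-1) = -(χ : S2 → ℂ) 1}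
  have hdvd0 : charDegree (χ₀ : S2 → ℂ) ∣ Nat.card S2 := CfsgLib.CharBlocks.charDegree_dvd_card χ₀.2
  have hsing : blockOf M (χ₀ : S2 → ℂ) = {χ₀} := CfsgLib.Blocks.blockOf_eq_singleton hM χ₀ fun hd => by
    have hm := mul_dvd_mul hd0 hd
    rw [Nat.mul_div_cancel' hdvd0, ← pow_succ] at hm
    exact Nat.pow_succ_factorization_not_dvd Nat.card_pos.ne' hpr hm
  -- every block lies in one of the three sets
  let lab : IrrCharacter S2 → Fin 3 := fun χ =>
    if (χ : S2 → ℂ) 1 = (Fintype.card F : ℂ) then 0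
    else if (χ : S2 → ℂ) (-1) = (χ : S2 → ℂ) 1 then 1 else 2
  have hlab : ∀ χ ψ : IrrCharacter S2, ψ ∈ blockOf M (χ : S2 → ℂ) → lab ψ = lab χ := by
    intro χ ψ h
    by_cases h0 : (χ : S2 → ℂ) 1 = (Fintype.card F : ℂ)
    · obtain rfl := hzero χ h0
      rw [hsing] at h
      rw [Set.mem_singleton_iff.1 h]
    · have h0' : (ψ : S2 → ℂ) 1 ≠ (Fintype.card F : ℂ) := fun e => by
        have e0 : ψ = χ₀ := hzero ψ e
        have h' := CfsgLib.Blocks.blockOf_eq_of_mem h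
        rw [e0] at h' e
        have : χ ∈ blockOf M (χ₀ : S2 → ℂ) := by
          rw [h']; exact CfsgLib.Blocks.mem_blockOf_self χ
        rw [hsing] at this
        exact h0 (Set.mem_singleton_iff.1 this ▸ e)
      simp only [lab, if_neg h0, if_neg h0']
      have hb : CfsgLib.Blocks.bomega (M := M) χ = CfsgLib.Blocks.bomega ψ :=
        (CfsgLib.Blocks.mem_blockOf_iff χ ψ).1 h
      by_cases hs : (χ : S2 → ℂ) (-1) = (χ : S2 → ℂ) 1
      · rw [if_pos hs, if_pos (sign_sameBlock p M hM hp ((CfsgLib.Blocks.sameBlock_iff χ ψ).2 hb) hs)]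
      · rw [if_neg hs, if_neg fun e => hs
          (sign_sameBlock p M hM hp ((CfsgLib.Blocks.sameBlock_iff ψ χ).2 hb.symm) e)]
  choose rep hrep using fun B : {B : Set (IrrCharacter S2) // IsPBlock M B} =>
    CfsgLib.Blocks.IsPBlock.nonempty B.2
  let f : {B : Set (IrrCharacter S2) // IsPBlock M B} → Fin 3 := fun B => lab (rep B)
  have hf : ∀ χ : IrrCharacter S2, f ⟨_, CfsgLib.Blocks.isPBlock_blockOf χ⟩ = lab χ := fun χ => hlab χ _ (hrep ⟨_, CfsgLib.Blocks.isPBlock_blockOf χ⟩)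
  obtain ⟨χm, hχm⟩ := exists_odd_sign (F := F) p hp
  have hm1 : lab χm = 2 := by
    have hne : (χm : S2 → ℂ) (-1) ≠ (χm : S2 → ℂ) 1 := fun e => by
      rw [hχm] at e
      exact CfsgLib.Char.irr_one_ne_zero χm.2 (by linear_combination (-1 / 2 : ℂ) * e)
    have h0 : (χm : S2 → ℂ) 1 ≠ (Fintype.card F : ℂ) := fun e => hne (hzero χm e ▸ hsign0)
    simp [lab, h0, hne]
  have hone : lab ⟨fun _ => 1, CfsgLib.Char.isIrrCharacter_one⟩ = 1 := by
    have h0 : (1 : ℂ) ≠ (Fintype.card F : ℂ) := fun e => by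
      have : 1 = Fintype.card F := by exact_mod_cast e
      have := Fintype.one_lt_card (α := F)
      omega
    simp [lab, h0]
  have hsurj : Function.Surjective f := by
    intro j
    fin_cases j
    · exact ⟨⟨_, CfsgLib.Blocks.isPBlock_blockOf χ₀⟩, (hf _).trans (by simp [lab, hdeg])⟩
    · exact ⟨⟨_, CfsgLib.Blocks.isPBlock_blockOf _⟩, (hf _).trans hone⟩
    · exact ⟨⟨_, CfsgLib.Blocks.isPBlock_blockOf χm⟩, (hf _).trans hm1⟩
  have hcard : Nat.card {B : Set (IrrCharacter S2) // IsPBlock M B} = 3 := by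
    rw [card_blocks p M hM hn]
    have h2 : 2 ∣ Nat.card Fˣ := by
      rw [← orderOf_eq_prime (p := 2) (x := (-1 : Fˣ)) (by simp) (fun e => two_ne_zero_field (F := F) p hp (by
        have := congrArg Units.val e
        simp only [Units.val_neg, Units.val_one] at this
        linear_combination -this))]
      exact orderOf_dvd_natCard _
    rw [Nat.gcd_eq_left h2]
  have hinj : Function.Injective f :=
    (Nat.bijective_iff_surjective_and_card f |>.2 ⟨hsurj, by rw [hcard, Nat.card_fin]⟩).1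
  have hblock : ∀ χ : IrrCharacter S2, blockOf M (χ : S2 → ℂ) = {ψ | lab ψ = lab χ} := fun χ => by
    ext ψ
    refine ⟨hlab χ ψ, fun h => ?_⟩
    have e := hinj (((hf ψ).trans h).trans (hf χ).symm)
    have e' : blockOf M (ψ : S2 → ℂ) = blockOf M (χ : S2 → ℂ) := congrArg Subtype.val e
    rw [← e']
    exact CfsgLib.Blocks.mem_blockOf_self ψ
  have hT0 : T₀ = {ψ | lab ψ = 0} := by
    ext ψ
    simp only [T₀, lab, Set.mem_ofPred_eq]
    split_ifs <;> simp [*]
  have hT1 : T₁ = {ψ | lab ψ = 1} := by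
    ext ψ
    simp only [T₁, lab, Set.mem_ofPred_eq]
    split_ifs <;> simp [*]
  have hT2 : T₂ = {ψ | lab ψ = 2} := by
    ext ψ
    simp only [T₂, lab, Set.mem_ofPred_eq]
    have hne : ∀ {x : ℂ}, x ≠ 0 → x ≠ -x := fun {x} hx e => hx (by linear_combination (1 / 2 : ℂ) * e)
    have h1 := hne (CfsgLib.Char.irr_one_ne_zero ψ.2)
    split_ifs with ha hb
    · have := hzero ψ ha
      subst this
      simp [hsign0, h1]
    · simp [hb, h1]
    · simp [(sign_dichotomy ψ).resolve_left hb]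
  have hiff : ∀ B : Set (IrrCharacter S2), IsPBlock M B ↔ (B = T₀ ∨ B = T₁ ∨ B = T₂) := by
    intro B
    constructor
    · rintro ⟨χ, rfl⟩
      rw [hblock χ, hT0, hT1, hT2]
      generalize lab χ = j
      fin_cases j <;> simp
    · rintro (rfl | rfl | rfl)
      · exact ⟨χ₀, by rw [hblock, hT0, ← show lab χ₀ = 0 by simp [lab, hdeg]]⟩
      · exact ⟨⟨_, CfsgLib.Char.isIrrCharacter_one⟩, by rw [hblock, hT1, ← hone]⟩
      · exact ⟨χm, by rw [hblock, hT2, ← hm1]⟩
  have hdef : ∀ B : Set (IrrCharacter S2), IsPBlock M B → χ₀ ∉ B →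
      ∀ P : Sylow p S2, IsDefectGroup p M B (P : Subgroup S2) := by
    intro B hB hχ P
    obtain ⟨D, hD⟩ := CfsgLib.Blocks.exists_isDefectGroup (p := p) hB
    have hDne : D ≠ ⊥ := by
      rintro rfl
      have hc := CfsgLib.Blocks.card_defectGroup hM hB hD
      rw [Subgroup.card_bot] at hc
      have h0 : blockDefect p B = 0 := by
        by_contra h; exact (Nat.one_lt_pow h hpr.one_lt).ne hc
      obtain ⟨χ, hχB⟩ := CfsgLib.Blocks.IsPBlock.nonempty hB
      have hle : sInf ((fun χ : IrrCharacter S2 => (charDegree (χ : S2 → ℂ)).factorization p) '' B) ≤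
          (charDegree (χ : S2 → ℂ)).factorization p := Nat.sInf_le ⟨χ, hχB, rfl⟩
      rw [blockDefect] at h0
      have hpos : charDegree (χ : S2 → ℂ) ≠ 0 :=
        (Nat.pos_of_dvd_of_pos (CfsgLib.CharBlocks.charDegree_dvd_card χ.2) Nat.card_pos).ne'
      exact hχ (huniq χ ((hpr.pow_dvd_iff_le_factorization hpos).2 (by omega)) ▸ hχB)
    obtain ⟨P', hP'⟩ := CfsgLib.Blocks.LocalCentral.sylow_defect hM le_rfl (local_hyp p hn) hB hD hDne
    obtain ⟨g, hg⟩ := MulAction.exists_smul_eq S2 P' P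
    have h := CfsgLib.Blocks.IsDefectGroup.conj hB hD g
    rw [← hg, Sylow.coe_subgroup_smul, hP']
    exact h
  refine ⟨hiff, hcard, fun P => ⟨hdef _ ((hiff _).2 (Or.inr (Or.inl rfl))) (fun h => h.2 hdeg) P,
    hdef _ ((hiff _).2 (Or.inr (Or.inr rfl))) (fun h => ?_) P⟩⟩
  have h' : (χ₀ : S2 → ℂ) 1 = -(χ₀ : S2 → ℂ) 1 := hsign0.symm.trans h
  exact CfsgLib.Char.irr_one_ne_zero χ₀.2 (by linear_combination (1 / 2 : ℂ) * h')

end CfsgLib.KnownSimple.SLBlocks
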